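import Cfsg.Agent.OddChar.TypeP.SibleyPrime.Basic
import Cfsg.Agent.OddChar.PowTwist
import Cfsg.Agent.Lib.CharTheory.Extraspecial
import Cfsg.Agent.S1523

/-!
# The integrality relation on the centre (Peterfalvi 6.7, 6.8)
-/

set_option linter.style.haveILetI false
set_option linter.unusedSectionVars false

namespace Cfsg.Agent.OddChar.TypeP.SibleyPrime

open Cfsg.Agent.Characters Cfsg.Agent.OddChar.Isometry Cfsg.Agent.OddChar.Coherence
open scoped ComplexConjugate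

universe u

section Central

variable {P : Type u} [Group P] [Fintype P]

/-- An irreducible character nontrivial on a central subgroup sums to zero thetaSet it. -/
theorem sum_center_eq_zero (Z : Subgroup P) [Fintype Z] (hZ : Z ≤ Subgroup.center P) {θ : P → ℂ}
    (hθ : Cfsg.IsIrrCharacter P θ) {z₀ : P} (hz₀ : z₀ ∈ Z) (hne : θ z₀ ≠ θ 1) :
    ∑ z : Z, θ z = 0 := by
  obtain ⟨c, hc⟩ := CharTheory.Extraspecial.central_scalar hθ (hZ hz₀)
  have h1 : ∑ z : Z, θ ((z : P) * z₀) = ∑ z : Z, θ z :=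
    Fintype.sum_equiv (Equiv.mulRight (⟨z₀, hz₀⟩ : Z)) _ _ fun z => rfl
  simp only [hc, ← Finset.mul_sum] at h1
  have hc1 : c ≠ 1 := fun e => hne (by simpa [e] using hc 1)
  rcases eq_or_ne (∑ z : Z, θ z) 0 with h | h
  · exact h
  · exact absurd (mul_right_cancel₀ h (h1.trans (one_mul _).symm)) hc1

open Classical in
/-- The characters nontrivial on `Z`. -/
noncomputable def thetaSet [Fintype (Cfsg.IrrCharacter P)] (Z : Subgroup P) :
    Finset (Cfsg.IrrCharacter P) :=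
  Finset.univ.filter fun θ => ¬ ∀ z ∈ Z, (θ : P → ℂ) z = (θ : P → ℂ) 1

theorem mem_thetaSet [Fintype (Cfsg.IrrCharacter P)] {Z : Subgroup P} {θ : Cfsg.IrrCharacter P} :
    θ ∈ thetaSet Z ↔ ∃ z ∈ Z, (θ : P → ℂ) z ≠ (θ : P → ℂ) 1 := by
  simp [thetaSet]

theorem sum_sq_thetaSet [Fintype (Cfsg.IrrCharacter P)] (Z : Subgroup P) [Z.Normal] :
    ∑ θ ∈ thetaSet Z, (Cfsg.charDegree (θ : P → ℂ) : ℤ) ^ 2 =
      (Nat.card P : ℤ) - (Z.index : ℤ) := by
  classical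
  have h1 := BlocksChars.Codegree.sum_degree_sq_nat (G := P)
  rw [← Finset.sum_filter_add_sum_filter_not Finset.univ
    (fun θ : Cfsg.IrrCharacter P => ∀ x ∈ Z, (θ : P → ℂ) x = (θ : P → ℂ) 1),
    BlocksChars.Codegree.sum_degree_sq_over Z] at h1
  rw [← h1]
  push_cast
  simp [thetaSet]

/-- If `r(1) - r(z)` is `|P| j` on `Z ∖ 1`, then `∑ ⟨r,θ⟩ θ(1) = j ∑ θ(1)²` thetaSet the characters
nontrivial on `Z`. -/
theorem relation [Fintype (Cfsg.IrrCharacter P)] (Z : Subgroup P) [Z.Normal] [Fintype Z]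
    (hZ : Z ≤ Subgroup.center P) {r : P → ℂ} (hr : Cfsg.IsClassFunction P r) (j : ℤ)
    (hj : ∀ z ∈ Z, z ≠ 1 → r 1 - r z = ((Nat.card P : ℤ) * j : ℤ)) :
    ∑ θ ∈ thetaSet Z, Cfsg.classInner r (θ : P → ℂ) * (Cfsg.charDegree (θ : P → ℂ) : ℂ) =
      ((j * ∑ θ ∈ thetaSet Z, (Cfsg.charDegree (θ : P → ℂ) : ℤ) ^ 2 : ℤ) : ℂ) := by
  classical
  have h1 : ∑ z : Z, (r 1 - r z) = ((Nat.card Z : ℂ) - 1) * ((Nat.card P : ℂ) * (j : ℂ)) := by
    rw [← Finset.sum_erase Finset.univ (a := (1 : Z)) (by simp),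
      Finset.sum_congr rfl fun (z : Z) hz => hj (z : P) z.2 fun e =>
        Finset.ne_of_mem_erase hz (Subtype.ext e),
      Finset.sum_const, Finset.card_erase_of_mem (Finset.mem_univ _), Finset.card_univ,
      ← Nat.card_eq_fintype_card, nsmul_eq_mul, Nat.cast_sub Nat.card_pos]
    push_cast; ring
  have hexp := classFun_eq_sum hr
  have h2 : ∑ z : Z, (r 1 - r z) = (Nat.card Z : ℂ) *
      ∑ θ ∈ thetaSet Z, Cfsg.classInner r (θ : P → ℂ) * (Cfsg.charDegree (θ : P → ℂ) : ℂ) := by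
    rw [Finset.sum_congr rfl fun (z : Z) _ => show r 1 - r z = ∑ θ : Cfsg.IrrCharacter P,
      Cfsg.classInner r (θ : P → ℂ) * ((θ : P → ℂ) 1 - (θ : P → ℂ) z) by
        conv_lhs => rw [hexp]
        simp only [Finset.sum_apply, Pi.smul_apply, smul_eq_mul, ← Finset.sum_sub_distrib,
          ← mul_sub],
      Finset.sum_comm, Finset.mul_sum]
    refine (Finset.sum_subset (Finset.subset_univ (thetaSet Z)) fun θ _ hθ => ?_).symm.trans
      (Finset.sum_congr rfl fun θ hθ => ?_)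
    · refine Finset.sum_eq_zero fun z _ => ?_
      have : (θ : P → ℂ) z = (θ : P → ℂ) 1 := by
        by_contra hn
        exact hθ (mem_thetaSet.2 ⟨z, z.2, hn⟩)
      rw [this, sub_self, mul_zero]
    · obtain ⟨z₀, hz₀, hne⟩ := mem_thetaSet.1 hθ
      rw [← Finset.mul_sum, Finset.sum_sub_distrib, sum_center_eq_zero Z hZ θ.2 hz₀ hne, sub_zero,
        Finset.sum_const, Finset.card_univ, ← Nat.card_eq_fintype_card, nsmul_eq_mul,
        ← BlocksChars.Degrees.charDegree_cast]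
      ring
  rw [h1, ← Z.card_mul_index, Nat.cast_mul] at h2
  refine mul_left_cancel₀ (natCard_ne_zero (G := Z)) (h2.symm.trans ?_)
  rw [Int.cast_mul, sum_sq_thetaSet, ← Z.card_mul_index]
  push_cast; ring

end Central

variable {G : Type u} [Group G] [Fintype G] (L : Subgroup G) [Fintype L] (K : Subgroup L)
  [hK : K.Normal]

/-- `⟨Ind (f η₀ - φ), ψ⟩` for `φ` induced from `θ`. -/
theorem inner_ind_sub {θ : K → ℂ} [Fintype K] (f : ℤ) (η₀ : L → ℂ) {ψ : G → ℂ}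
    (hψ : Cfsg.IsGeneralizedCharacter G ψ) :
    Cfsg.classInner (Cfsg.indFun L (f • η₀ - Cfsg.indFun K θ)) ψ =
      (f : ℂ) * Cfsg.classInner η₀ (fun y : L => ψ y) -
        Cfsg.classInner θ (fun y : K => ψ ((y : L) : G)) := by
  rw [frobenius_reciprocity L _ (isGen_isClassFunction hψ), classInner_sub_left,
    inner_smul_int_left]
  congr 1
  exact frobenius_reciprocity K θ (isGen_isClassFunction (isGen_restrict L hψ))

/-- The hypothesis of the glueing lemma from the congruence. -/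
theorem glue_hyp [Fintype K] [Fintype (Cfsg.IrrCharacter K)] (Z : Subgroup K) [Z.Normal]
    (hZ : Z ≤ Subgroup.center K) {η₀ : L → ℂ} (hη₀ : Cfsg.IsGeneralizedCharacter L η₀)
    {ψ : G → ℂ} (hψ : Cfsg.IsGeneralizedCharacter G ψ) (j : ℤ)
    (hj : ∀ z ∈ Z, z ≠ 1 → ψ 1 - ψ ((z : L) : G) = ((Nat.card K : ℤ) * j : ℤ)) :
    ∃ M : ℤ, ∑ θ ∈ thetaSet Z, Cfsg.classInner
        (Cfsg.indFun L ((Cfsg.charDegree (θ : K → ℂ) : ℤ) • η₀ - Cfsg.indFun K (θ : K → ℂ))) ψ *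
          (Cfsg.charDegree (θ : K → ℂ) : ℂ) =
        ((M * ∑ θ ∈ thetaSet Z, (Cfsg.charDegree (θ : K → ℂ) : ℤ) ^ 2 : ℤ) : ℂ) := by
  classical
  haveI := Fintype.ofFinite Z
  have hr : Cfsg.IsGeneralizedCharacter K (fun y : K => ψ ((y : L) : G)) :=
    isGen_restrict K (isGen_restrict L hψ)
  obtain ⟨k, hk⟩ := classInner_gen_int hη₀ (isGen_restrict L hψ)
  refine ⟨k - j, ?_⟩
  have hrel := relation Z hZ (isGen_isClassFunction hr) j
    (fun z hz hz1 => by simpa using hj z hz hz1)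
  rw [Int.cast_mul, Int.cast_sum] at hrel
  rw [Int.cast_mul, Int.cast_sub, sub_mul, Int.cast_sum, ← hrel, Finset.mul_sum,
    ← Finset.sum_sub_distrib]
  refine Finset.sum_congr rfl fun θ _ => ?_
  rw [inner_ind_sub L K _ η₀ hψ, hk,
    Signed.gen_inner_comm (isGen_of_isCharacter (irr_isCharacter θ)) hr]
  push_cast; ring

/-- A Sylow subgroup which is a trivial intersection set (Peterfalvi 6.7). -/
theorem congruence {K₀ : Subgroup G} (hK₀ : K = K₀.subgroupOf L) (hle : K₀ ≤ L)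
    (hN : Subgroup.normalizer (K₀ : Set G) = L) (hTI : Cfsg.IsTISubset (K₀ : Set G))
    {p : ℕ} [Fact p.Prime] (hp : IsPGroup p K₀) (hcop : (Nat.card K).Coprime K.index)
    (hne : K ≠ ⊥) (hodd : Odd (Nat.card L)) (Z : Subgroup L) [hZn : Z.Normal] (hZ1 : Z ≠ ⊥)
    (hZK : Z ≤ K) (hZc : ∀ z ∈ Z, ∀ k ∈ K, z * k = k * z)
    (hCL : ∀ z ∈ Z, ∀ z' ∈ Z, z ≠ 1 → z' ≠ 1 →
      Subgroup.centralizer ({z} : Set L) = Subgroup.centralizer ({z'} : Set L))
    {ψ : G → ℂ} (hψ : Signed.IsSIrr ψ)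
    (hconst : ∀ z ∈ Z, ∀ z' ∈ Z, z ≠ 1 → z' ≠ 1 → ψ (z : G) = ψ (z' : G)) :
    ∃ j : ℤ, ∀ z ∈ Z, z ≠ 1 → ψ 1 - ψ (z : G) = ((Nat.card K : ℤ) * j : ℤ) := by
  have hcard : Nat.card K = Nat.card K₀ := by
    rw [hK₀]; exact Nat.card_congr (Subgroup.subgroupOfEquivOfLe hle).toEquiv
  obtain ⟨P, hP⟩ := hp.exists_le_sylow
  have hPK : (P : Subgroup G) = K₀ := by
    refine le_antisymm ?_ hP
    by_contra hlt
    haveI := P.2.isNilpotent
    have hlt' : K₀.subgroupOf (P : Subgroup G) < ⊤ :=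
      lt_top_iff_ne_top.2 fun e => hlt (Subgroup.subgroupOf_eq_top.1 e)
    obtain ⟨x, hx, hx'⟩ := SetLike.exists_of_lt
      (Group.normalizerCondition_of_isNilpotent (K₀.subgroupOf (P : Subgroup G)) hlt')
    have hxL : (x : G) ∈ L := by
      rw [← hN, Subgroup.mem_normalizer_iff]
      intro y
      have hxn := Subgroup.mem_normalizer_iff.1 hx
      constructor
      · intro hy
        have := (hxn ⟨y, hP hy⟩).1 (by simpa [Subgroup.mem_subgroupOf] using hy)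
        simpa [Subgroup.mem_subgroupOf] using this
      · intro hy
        have hyP : y ∈ (P : Subgroup G) := by
          have h1 : (x : G) * y * (x : G)⁻¹ ∈ (P : Subgroup G) := hP hy
          simpa [mul_assoc] using
            (P : Subgroup G).mul_mem ((P : Subgroup G).mul_mem ((P : Subgroup G).inv_mem x.2) h1) x.2
        have := (hxn ⟨y, hyP⟩).2 (by simpa [Subgroup.mem_subgroupOf] using hy)
        simpa [Subgroup.mem_subgroupOf] using this
    obtain ⟨m, hm⟩ := P.2 x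
    have h1 : orderOf (QuotientGroup.mk' K (⟨x, hxL⟩ : L)) ∣ p ^ m := by
      refine orderOf_dvd_of_pow_eq_one ?_
      rw [← map_pow, show (⟨x, hxL⟩ : L) ^ (p ^ m) = 1 from Subtype.ext (by
        simpa using congrArg Subtype.val hm), map_one]
    have hpK : p ∣ Nat.card K := by
      obtain ⟨a, ha⟩ := hp.exists_card_eq
      rcases a with _ | a
      · refine absurd (Subgroup.card_eq_one.1 ?_) hne
        rw [hcard, ha, pow_zero]
      · rw [hcard, ha]; exact dvd_pow_self p (Nat.succ_ne_zero a)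
    have h2 : (p ^ m).Coprime K.index := (hcop.coprime_dvd_left hpK).pow_left m
    have h3 : (⟨x, hxL⟩ : L) ∈ K := (QuotientGroup.eq_one_iff _).1 (orderOf_eq_one_iff.1
      (Nat.eq_one_of_dvd_coprimes h2 h1 (by rw [Subgroup.index_eq_card]; exact orderOf_dvd_natCard _)))
    rw [hK₀] at h3
    exact hx' (by simpa [Subgroup.mem_subgroupOf] using h3)
  set W := Z.map L.subtype with hW
  have hW1 : W ≠ ⊥ := fun e =>
    hZ1 ((Subgroup.map_eq_bot_iff_of_injective _ L.subtype_injective).1 e)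
  have hWP : W ≤ (P : Subgroup G) := by
    rintro - ⟨w, hw, rfl⟩
    have := hZK hw
    rw [hK₀] at this
    rw [hPK]; exact this
  have hNP : Subgroup.normalizer ((P : Subgroup G) : Set G) = L := by rw [hPK]; exact hN
  have hTIP : Cfsg.IsTISubset ((P : Subgroup G) : Set G) := by rw [hPK]; exact hTI
  have hWn : ∀ x ∈ Subgroup.normalizer ((P : Subgroup G) : Set G), ∀ w ∈ W, x * w * x⁻¹ ∈ W := by
    rw [hNP]
    rintro x hx - ⟨w, hw, rfl⟩
    exact ⟨_, hZn.conj_mem w hw ⟨x, hx⟩, rfl⟩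
  have hWc : ∀ w ∈ W, ∀ y ∈ (P : Subgroup G), w * y = y * w := by
    rintro - ⟨w, hw, rfl⟩ y hy
    rw [hPK] at hy
    exact congrArg Subtype.val (hZc w hw ⟨y, hle hy⟩ (by rw [hK₀]; exact hy))
  have hcl : ∀ w ∈ W, ∀ w' ∈ W, w ≠ 1 → w' ≠ 1 →
      Nat.card ↥(Subgroup.normalizer ((P : Subgroup G) : Set G) ⊓
        Subgroup.centralizer ({w} : Set G)) =
      Nat.card ↥(Subgroup.normalizer ((P : Subgroup G) : Set G) ⊓
        Subgroup.centralizer ({w'} : Set G)) := by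
    rw [hNP]
    rintro - ⟨a, ha, rfl⟩ - ⟨b, hb, rfl⟩ h h'
    have e := hCL a ha b hb (fun e => h (by rw [e]; rfl)) (fun e => h' (by rw [e]; rfl))
    suffices L ⊓ Subgroup.centralizer ({L.subtype a} : Set G) =
      L ⊓ Subgroup.centralizer ({L.subtype b} : Set G) by rw [this]
    ext y
    simp only [Subgroup.mem_inf, Subgroup.mem_centralizer_singleton_iff]
    refine and_congr_right fun hy => ?_
    have := SetLike.ext_iff.1 e ⟨y, hy⟩
    simpa [Subgroup.mem_centralizer_singleton_iff, Subtype.ext_iff] using this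
  have hodd' : Odd (Nat.card (Subgroup.normalizer ((P : Subgroup G) : Set G))) := by
    rw [hNP]; exact hodd
  obtain ⟨⟨z₁, hz₁⟩, hz₁1⟩ := Subgroup.ne_bot_iff_exists_ne_one.1 hZ1
  have hz₁' : z₁ ≠ 1 := fun e => hz₁1 (Subtype.ext e)
  have main : ∀ ψ' : G → ℂ, Cfsg.IsIrrCharacter G ψ' →
      (∀ z ∈ Z, ∀ z' ∈ Z, z ≠ 1 → z' ≠ 1 → ψ' (z : G) = ψ' (z' : G)) →
      ∃ j : ℤ, ψ' 1 - ψ' (z₁ : G) = ((Nat.card K : ℤ) * j : ℤ) := by
    intro ψ' hψ' hc'
    obtain ⟨n, d, hn, hd, j, hj⟩ := S1523.result p P hTIP hodd' W hW1 hWP hWn hWc hcl ψ' hψ'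
      (fun w hw w' hw' h h' => by
        obtain ⟨a, ha, rfl⟩ := hw
        obtain ⟨b, hb, rfl⟩ := hw'
        exact hc' a ha b hb (fun e => h (by rw [e]; rfl)) (fun e => h' (by rw [e]; rfl)))
      (z₁ : G) ⟨z₁, hz₁, rfl⟩ (fun e => hz₁' (Subtype.ext e))
    refine ⟨j, ?_⟩
    rw [hd, hn, hcard, ← Int.cast_sub, hj, hPK]
  obtain ⟨j, hj⟩ : ∃ j : ℤ, ψ 1 - ψ (z₁ : G) = ((Nat.card K : ℤ) * j : ℤ) := by
    rcases hψ with h | h
    · exact main ψ h hconst
    · obtain ⟨j, hj⟩ := main (-ψ) h (fun z hz z' hz' h1 h2 => by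
        simp only [Pi.neg_apply, hconst z hz z' hz' h1 h2])
      refine ⟨-j, ?_⟩
      simp only [Pi.neg_apply] at hj
      push_cast at hj ⊢
      linear_combination -hj
  exact ⟨j, fun z hz hz1 => by rw [← hconst z₁ hz₁ z hz hz₁' hz1, hj]⟩

omit hK in
/-- Power twists preserve inner products. -/
theorem inner_comp_pow {X : Type u} [Group X] [Fintype X] {k : ℕ} (hk : k.Coprime (Nat.card X))
    (a b : X → ℂ) :
    Cfsg.classInner (fun g => a (g ^ k)) (fun g => b (g ^ k)) = Cfsg.classInner a b := by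
  rw [classInner_def, classInner_def]
  refine congrArg _ (Fintype.sum_equiv (powCoprime (G := X) hk.symm) _ _ fun g => rfl)

set_option maxHeartbeats 1000000 in
/-- The image of a character of least degree is constant on a central subgroup of prime order
(Galois conjugation). -/
theorem const_prime (hTI : KernelTI L K) (hcop : (Nat.card K).Coprime K.index)
    (hodd : Odd (Nat.card L)) {Y : Set (L → ℂ)} (hYS : Y ⊆ Cfsg.inducedIrrAbove K ⊥)
    (hYc : ∀ η ∈ Y, Cfsg.conjFun η ∈ Y) (hYirr : ∀ η ∈ Y, Cfsg.IsIrrCharacter L η)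
    (hYdeg : ∀ η ∈ Y, η 1 = (K.index : ℂ))
    (hYp : ∀ η ∈ Y, ∀ k : ℕ, k.Coprime (Nat.card G) → (fun y => η (y ^ k)) ∈ Y)
    {ρ : (L → ℂ) → (G → ℂ)} (hρ : Cfsg.IsLinearIsometryOn (Cfsg.zspan Y) ρ)
    (hρτ : ∀ θ ∈ Cfsg.zspanOn Y {1}ᶜ, ρ θ = Cfsg.indFun L θ) {η₀ : L → ℂ} (hη₀ : η₀ ∈ Y)
    (Z : Subgroup L) {p : ℕ} [hp : Fact p.Prime] (hZ : Nat.card Z = p)
    (hYZ : ∀ η ∈ Y, ∀ z ∈ Z, η z = η 1) :
    ∀ z ∈ Z, ∀ z' ∈ Z, z ≠ 1 → z' ≠ 1 → ρ η₀ (z : G) = ρ η₀ (z' : G) := by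
  intro z hz z' hz' hz1 hz1'
  haveI : Fintype Z := Fintype.ofFinite Z
  have hgen : (⟨z', hz'⟩ : Z) ∈ Subgroup.zpowers (⟨z, hz⟩ : Z) :=
    mem_zpowers_of_prime_card hZ fun e => hz1 (congrArg Subtype.val e)
  obtain ⟨s, hs⟩ := mem_powers_iff_mem_zpowers.2 hgen
  have hs' : z ^ s = z' := congrArg Subtype.val hs
  have hzp : z ^ p = 1 := by
    have : (⟨z, hz⟩ : Z) ^ Nat.card Z = 1 := pow_card_eq_one'
    rw [hZ] at this
    exact congrArg Subtype.val this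
  have hps : ¬ p ∣ s := fun ⟨a, ha⟩ => hz1' (by rw [← hs', ha, pow_mul, hzp, one_pow])
  -- an exponent prime to `|G|`, congruent to `s` modulo `p`
  obtain ⟨k, hk1, hk2⟩ := Nat.chineseRemainder
    (Nat.coprime_ordCompl hp.out (Nat.card_pos (α := G)).ne') s 1
  have hkp : ¬ p ∣ k := fun h => hps ((Nat.ModEq.dvd_iff hk1 dvd_rfl).1 h)
  have hk : k.Coprime (Nat.card G) := by
    refine Nat.coprime_of_dvd fun q hq h1 h2 => ?_
    by_cases hqp : q = p
    · exact hkp (hqp ▸ h1)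
    · have hqm : q ∣ ordCompl[p] (Nat.card G) := Nat.dvd_ordCompl_of_dvd_not_dvd h2 fun h =>
        hqp ((Nat.prime_dvd_prime_iff_eq hp.out hq).1 h).symm
      exact hq.not_dvd_one ((Nat.ModEq.dvd_iff hk2 hqm).1 h1)
  have hzk : z ^ k = z' := by
    rw [← hs']
    exact pow_eq_pow_iff_modEq.2 (hk1.of_dvd (orderOf_dvd_of_pow_eq_one hzp))
  have hzk' : (z : G) ^ k = (z' : G) := by rw [← hzk]; rfl
  -- the twisted pair
  set η₁ : L → ℂ := fun y => η₀ (y ^ k) with hη₁def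
  have hη₁ : η₁ ∈ Y := hYp η₀ hη₀ k hk
  have hd : ∀ η ∈ Y, ∀ η' ∈ Y, η - η' ∈ Cfsg.zspanOn Y {1}ᶜ := fun η h η' h' =>
    mem_zspanOn_compl_one (Submodule.sub_mem _ (mem_zS h) (mem_zS h'))
      (by rw [Pi.sub_apply, hYdeg η h, hYdeg η' h', sub_self])
  have hY1 : ∀ η ∈ Y, ρ η 1 = ρ η₀ 1 := fun η h => by
    have h1 := congrFun (hρτ _ (hd η h η₀ hη₀)) 1
    rw [map_sub' (M := zS Y) hρ (mem_zS h) (mem_zS hη₀), Pi.sub_apply, indFun_one,
      apply_one_eq_zero (hd η h η₀ hη₀), mul_zero, sub_eq_zero] at h1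
    exact h1
  set ψ := ρ η₀ with hψdef
  set ψ' : G → ℂ := fun g => ψ (g ^ k) with hψ'def
  set ψc : G → ℂ := fun g => ρ (Cfsg.conjFun η₀) (g ^ k) with hψcdef
  have hs1 : ∀ η ∈ Y, Signed.IsSIrr (ρ η) := fun η h => isSIrr_image hYirr hρ h
  have hs2 : Signed.IsSIrr ψ' := by
    rcases hs1 η₀ hη₀ with h | h
    · exact Or.inl (PowTwist.isIrr_comp_pow h hk)
    · exact Or.inr (PowTwist.isIrr_comp_pow h hk)
  have hc₀ := hYc η₀ hη₀
  have hc₁ := hYc η₁ hη₁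
  have hdiff : ψ' - ψc = ρ η₁ - ρ (Cfsg.conjFun η₁) := by
    funext g
    have h1 := congrFun (hρτ _ (hd η₀ hη₀ _ hc₀)) (g ^ k)
    rw [map_sub' (M := zS Y) hρ (mem_zS hη₀) (mem_zS hc₀), PowTwist.indFun_comp_pow L _ hk] at h1
    have h2 := congrFun (hρτ _ (hd η₁ hη₁ _ hc₁)) g
    rw [map_sub' (M := zS Y) hρ (mem_zS hη₁) (mem_zS hc₁)] at h2
    exact h1.trans h2.symm
  have hirrY : ∀ η ∈ Y, ∀ η' ∈ Y, η ≠ η' → Cfsg.classInner η η' = 0 := fun η h η' h' hne =>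
    classInner_isIrr_ne (hYirr η h) (hYirr η' h') hne
  have hψψc : Cfsg.classInner ψ' ψc = 0 := by
    rw [hψ'def, hψcdef, inner_comp_pow hk, hψdef, hρ.2.2.1 _ (mem_zS hη₀) _ (mem_zS hc₀)]
    exact hirrY _ hη₀ _ hc₀ (conj_ne L K hodd (hYS hη₀)).symm
  have h1 : Cfsg.classInner ψ' (ρ η₁) - Cfsg.classInner ψ' (ρ (Cfsg.conjFun η₁)) = 1 := by
    rw [← classInner_sub_right, ← hdiff, classInner_sub_right, hs2.inner_self, hψψc, sub_zero]
  have horth : Cfsg.classInner (ρ η₁) (ρ (Cfsg.conjFun η₁)) = 0 := by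
    rw [hρ.2.2.1 _ (mem_zS hη₁) _ (mem_zS hc₁)]
    exact hirrY _ hη₁ _ hc₁ (conj_ne L K hodd (hYS hη₁)).symm
  have heq : ψ' = ρ η₁ := by
    have hd1 : ψ' 1 = ψ 1 := by simp [hψ'def]
    have hne : ψ 1 ≠ 0 := (hs1 η₀ hη₀).apply_one_ne_zero
    rcases hs2.inner_cases (hs1 η₁ hη₁) with e | e | e
    · rw [e, zero_sub, neg_eq_iff_eq_neg] at h1
      rcases (hs2.inner_cases (hs1 _ hc₁)).resolve_left (by rw [h1]; norm_num) with e' | e'
      · rw [e', (hs1 _ hc₁).inner_self] at h1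
        norm_num at h1
      · refine absurd ?_ hne
        have := congrFun e' 1
        rw [hd1, Pi.neg_apply, hY1 _ hc₁] at this
        exact self_eq_neg.1 this
    · exact e
    · rw [e, classInner_neg_left, (hs1 _ hη₁).inner_self, classInner_neg_left, horth] at h1
      norm_num at h1
  -- evaluate at `z`
  have hval : ρ η₁ (z : G) = ψ (z : G) := by
    have h3 := congrFun (hρτ _ (hd η₁ hη₁ η₀ hη₀)) (z : G)
    have hm := zspan_mono hYS (hd η₁ hη₁ η₀ hη₀).1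
    rw [map_sub' (M := zS Y) hρ (mem_zS hη₁) (mem_zS hη₀),
      ind_value L K hTI hcop (isGen_isClassFunction (isGen_of_mem L K hm))
        (fun y hy => vanish_off L K hm hy) hz1,
      Pi.sub_apply, Pi.sub_apply, hYZ η₁ hη₁ z hz, hYZ η₀ hη₀ z hz, hYdeg η₁ hη₁, hYdeg η₀ hη₀,
      sub_self, sub_eq_zero] at h3
    exact h3
  rw [← hzk', ← hval, ← heq]

end Cfsg.Agent.OddChar.TypeP.SibleyPrime
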