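import Cfsg.Agent.OddChar.Coherence.Sibley

/-!
# Glueing induced characters onto the linear ones (Peterfalvi 6.8)

Each `τ (f η₀ - φ)` is studied on its own: its coefficient at `ρ η₀` is `c + f` with `-f ≤ c ≤ 0`,
and one integrality relation for `∑ c f` forces all `c` to vanish, up to the choice of `ρ`.
-/

set_option linter.style.haveILetI false
set_option linter.unusedSectionVars false

namespace Cfsg.Agent.OddChar.TypeP.SibleyPrime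

open Cfsg.Agent.Characters Cfsg.Agent.OddChar.Isometry Cfsg.Agent.OddChar.Coherence
open scoped ComplexConjugate

universe u v

variable {L : Type u} [Group L] [Fintype L] {G : Type v} [Group G] [Fintype G]
  {τ : (L → ℂ) → (G → ℂ)} {R : (L → ℂ) → Finset (G → ℂ)}

/-- A coherent extension prescribed through a pivot whose degree divides all others. -/
theorem coherent_pivot {S : Set (L → ℂ)} (hS : Cfsg.IsCoherenceSystem S τ R) (T : Finset (L → ℂ))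
    (hTS : ↑T ⊆ S) {η₀ : L → ℂ} (hη₀ : η₀ ∈ T) (F : (L → ℂ) → ℤ)
    (hF : ∀ φ ∈ T, φ 1 = (F φ : ℂ) * η₀ 1) (f : (L → ℂ) → (G → ℂ))
    (hgram : ∀ a ∈ T, ∀ b ∈ T, Cfsg.classInner (f a) (f b) = Cfsg.classInner a b)
    (hgen : ∀ a ∈ T, Cfsg.IsGeneralizedCharacter G (f a))
    (hf : ∀ φ ∈ T, f φ - F φ • f η₀ = τ (φ - F φ • η₀))
    (hne : ∃ α ∈ Cfsg.zspanOn (↑T : Set (L → ℂ)) {1}ᶜ, α ≠ 0) :
    Cfsg.IsCoherent (↑T : Set (L → ℂ)) {1}ᶜ τ := by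
  have horth : ∀ a ∈ T, ∀ b ∈ T, a ≠ b → Cfsg.classInner a b = 0 := fun a ha b hb =>
    hS.orthogonal a (hTS ha) b (hTS hb)
  have hnz : ∀ a ∈ T, Cfsg.classInner a a ≠ 0 := fun a ha => inner_self_ne hS (hTS ha)
  have hiso := extend_isometry horth hnz hgram hgen
  refine ⟨hne, extend T f, hiso, ?_⟩
  have hz : Cfsg.IsLinearIsometryOn (↑(zOn S {1}ᶜ) : Set (L → ℂ)) τ := hS.isometry
  have hdiff : ∀ φ ∈ T, φ - F φ • η₀ ∈ zOn S {1}ᶜ := fun φ hφ => mem_zspanOn_compl_one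
    (Submodule.sub_mem _ (mem_zS (hTS hφ)) (Submodule.smul_mem _ _ (mem_zS (hTS hη₀))))
    (by rw [Pi.sub_apply, Pi.smul_apply, hF φ hφ, zsmul_eq_mul, sub_self])
  have main : ∀ α ∈ Cfsg.zspan (↑T : Set (L → ℂ)), ∃ k : ℤ, α - k • η₀ ∈ zOn S {1}ᶜ ∧
      extend T f (α - k • η₀) = τ (α - k • η₀) ∧ α 1 = (k : ℂ) * η₀ 1 := by
    intro α hα
    refine Submodule.span_induction (fun x hx => ⟨F x, hdiff x hx, ?_, hF x hx⟩)
      ⟨0, ?_, ?_, ?_⟩ ?_ ?_ hα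
    · rw [map_sub, map_zsmul, extend_apply horth hnz hx, extend_apply horth hnz hη₀, hf x hx]
    · rw [zero_smul, sub_zero]; exact (zOn S {1}ᶜ).zero_mem
    · simp [map_zero' hz]
    · simp
    · rintro x y - - ⟨k, h1, h2, h3⟩ ⟨l, h4, h5, h6⟩
      have e : x + y - (k + l) • η₀ = (x - k • η₀) + (y - l • η₀) := by module
      refine ⟨k + l, ?_, ?_, ?_⟩
      · rw [e]; exact (zOn S {1}ᶜ).add_mem h1 h4
      · rw [e, map_add, h2, h5, hz.1 _ h1 _ h4]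
      · simp [h3, h6]; ring
    · rintro c x - ⟨k, h1, h2, h3⟩
      have e : c • x - (c * k) • η₀ = c • (x - k • η₀) := by module
      refine ⟨c * k, ?_, ?_, ?_⟩
      · rw [e]; exact (zOn S {1}ᶜ).smul_mem c h1
      · rw [e, map_zsmul, h2, hz.2.1 _ h1]
      · simp [h3]; ring
  intro α hα
  obtain ⟨k, -, h2, h3⟩ := main α hα.1
  rw [apply_one_eq_zero hα] at h3
  obtain ⟨d₁, hd₁, hd₁'⟩ := degree_pos hS (hTS hη₀)
  rw [hd₁'] at h3
  have hk : k = 0 := by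
    rcases mul_eq_zero.1 h3.symm with e | e
    · exact_mod_cast e
    · exact absurd (Nat.cast_eq_zero.1 e) hd₁.ne'
  rwa [hk, zero_smul, sub_zero] at h2

variable {K : Subgroup L} [hK : K.Normal]
  (hS : Cfsg.IsCoherenceSystem (Cfsg.inducedIrrAbove K ⊥) τ R)

set_option maxHeartbeats 2000000 in
open Classical in
include hS in
/-- The glueing lemma. -/
theorem glue {Y : Set (L → ℂ)} (hYS : Y ⊆ Cfsg.inducedIrrAbove K ⊥)
    (hYc : ∀ η ∈ Y, Cfsg.conjFun η ∈ Y) (hYirr : ∀ η ∈ Y, Cfsg.IsIrrCharacter L η)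
    (hYdeg : ∀ η ∈ Y, η 1 = (K.index : ℂ))
    {ρ₀ : (L → ℂ) → (G → ℂ)} (hρ₀ : Cfsg.IsLinearIsometryOn (Cfsg.zspan Y) ρ₀)
    (hρ₀τ : ∀ θ ∈ Cfsg.zspanOn Y {1}ᶜ, ρ₀ θ = τ θ) {η₀ : L → ℂ} (hη₀ : η₀ ∈ Y)
    (Θ : Finset (Cfsg.IrrCharacter K)) (hΘ1 : ∀ θ ∈ Θ, (θ : K → ℂ) ≠ fun _ => 1)
    (hΘY : ∀ θ ∈ Θ, Cfsg.indFun K (θ : K → ℂ) ∉ Y)
    (hM : ∃ M : ℤ, ∑ θ ∈ Θ, Cfsg.classInner
        (τ ((Cfsg.charDegree (θ : K → ℂ) : ℤ) • η₀ - Cfsg.indFun K (θ : K → ℂ))) (ρ₀ η₀) *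
          (Cfsg.charDegree (θ : K → ℂ) : ℂ) =
        ((M * ∑ θ ∈ Θ, (Cfsg.charDegree (θ : K → ℂ) : ℤ) ^ 2 : ℤ) : ℂ)) :
    Cfsg.IsCoherent (Y ∪ (fun θ : Cfsg.IrrCharacter K => Cfsg.indFun K (θ : K → ℂ)) '' ↑Θ)
      {1}ᶜ τ := by
  set S := Cfsg.inducedIrrAbove K ⊥ with hSdef
  set e := K.index
  have he0 : (e : ℂ) ≠ 0 := Nat.cast_ne_zero.2 Subgroup.index_ne_zero_of_finite
  set d : Cfsg.IrrCharacter K → ℕ := fun θ => Cfsg.charDegree (θ : K → ℂ) with hd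
  set φ : Cfsg.IrrCharacter K → (L → ℂ) := fun θ => Cfsg.indFun K (θ : K → ℂ) with hφ
  have hdeg : ∀ θ : Cfsg.IrrCharacter K, (θ : K → ℂ) 1 = (d θ : ℂ) := fun θ =>
    (BlocksChars.Degrees.charDegree_cast θ).symm
  have hd0 : ∀ θ : Cfsg.IrrCharacter K, 0 < d θ := fun θ => by
    refine Nat.pos_of_ne_zero fun h => irr_one_ne_zero θ.2 ?_
    rw [hdeg, h, Nat.cast_zero]
  have hφS : ∀ θ ∈ Θ, φ θ ∈ S := fun θ hθ => ⟨θ, θ.2, hΘ1 θ hθ, fun a ha => by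
    rw [show a = 1 from Subtype.ext (Subgroup.mem_bot.1 ha)], rfl⟩
  set w : Cfsg.IrrCharacter K → (L → ℂ) := fun θ => (d θ : ℤ) • η₀ - φ θ with hw
  have hwS : ∀ θ ∈ Θ, w θ ∈ Cfsg.zspanOn S {1}ᶜ := fun θ hθ => mem_zspanOn_compl_one
    (Submodule.sub_mem _ (Submodule.smul_mem _ _ (mem_zS (hYS hη₀))) (mem_zS (hφS θ hθ))) (by
      show (d θ : ℤ) • η₀ 1 - φ θ 1 = 0
      simp only [hφ, hYdeg η₀ hη₀, indFun_one, hdeg, zsmul_eq_mul]
      push_cast; ring)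
  set v : Cfsg.IrrCharacter K → (G → ℂ) := fun θ => τ (w θ) with hv
  have hvgen : ∀ θ ∈ Θ, Cfsg.IsGeneralizedCharacter G (v θ) := fun θ hθ =>
    hS.isometry.2.2.2 _ (hwS θ hθ)
  have hφη : ∀ θ ∈ Θ, ∀ η ∈ Y, Cfsg.classInner (φ θ) η = 0 := fun θ hθ η hη =>
    hS.orthogonal _ (hφS θ hθ) _ (hYS hη) fun e' => hΘY θ hθ (show φ θ ∈ Y from e'.symm ▸ hη)
  have hηφ : ∀ θ ∈ Θ, ∀ η ∈ Y, Cfsg.classInner η (φ θ) = 0 := fun θ hθ η hη =>
    inner_comm_zero (hφη θ hθ η hη)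
  have hηη : ∀ η ∈ Y, ∀ η' ∈ Y, Cfsg.classInner η η' = if η = η' then 1 else 0 :=
    fun η h η' h' => irr_orth hYirr h h'
  obtain ⟨M, hM⟩ := hM
  choose! N hN0 hN using fun θ (hθ : θ ∈ Θ) => norm_pos hS (hφS θ hθ)
  have hvv : ∀ θ ∈ Θ, Cfsg.classInner (v θ) (v θ) = (d θ : ℂ) * d θ + N θ := by
    intro θ hθ
    rw [hv, hS.isometry.2.2.1 _ (hwS θ hθ) _ (hwS θ hθ), hw, classInner_sub_left,
      classInner_sub_right, classInner_sub_right, inner_smul_int_left, inner_smul_int_right,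
      inner_smul_int_left, inner_smul_int_right, hηη _ hη₀ _ hη₀, if_pos rfl, hηφ θ hθ _ hη₀,
      hφη θ hθ _ hη₀, hN θ hθ]
    push_cast; ring
  -- the coefficients along `Y`
  have hfinY : Y.Finite := (above_finite K ⊥).subset hYS
  set sY := hfinY.toFinset
  have hmY : ∀ η, η ∈ sY ↔ η ∈ Y := fun η => hfinY.mem_toFinset
  set n := sY.card
  have hn2 : 2 ≤ n := Finset.one_lt_card.2 ⟨_, (hmY _).2 (hYc η₀ hη₀), η₀, (hmY _).2 hη₀,
    hS.conj_ne η₀ (hYS hη₀)⟩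
  choose! c hc using fun θ (hθ : θ ∈ Θ) =>
    classInner_gen_int (hvgen θ hθ) (hρ₀.2.2.2 _ (mem_zS hη₀))
  have hcY : ∀ θ ∈ Θ, ∀ η ∈ Y, Cfsg.classInner (v θ) (ρ₀ η) =
      ((if η = η₀ then c θ else c θ - d θ : ℤ) : ℂ) := by
    intro θ hθ η hη
    split_ifs with h
    · rw [h]; exact hc θ hθ
    · have hβ : η - η₀ ∈ Cfsg.zspanOn Y {1}ᶜ := mem_zspanOn_compl_one
        (Submodule.sub_mem _ (mem_zS hη) (mem_zS hη₀))
        (by rw [Pi.sub_apply, hYdeg η hη, hYdeg η₀ hη₀, sub_self])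
      have h1 := hS.isometry.2.2.1 _ (hwS θ hθ) _ (zspanOn_mono _ hYS hβ)
      rw [← hρ₀τ _ hβ, map_sub' (M := zS Y) hρ₀ (mem_zS hη) (mem_zS hη₀), classInner_sub_right,
        show τ (w θ) = v θ from rfl, hc θ hθ, hw, classInner_sub_left, classInner_sub_right,
        classInner_sub_right, inner_smul_int_left, inner_smul_int_left, hηη _ hη₀ _ hη,
        hηη _ hη₀ _ hη₀, if_neg (Ne.symm h), if_pos rfl, hφη θ hθ _ hη, hφη θ hθ _ hη₀] at h1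
      push_cast at h1 ⊢
      linear_combination h1
  have hρR : ∀ θ ∈ Θ, ∀ η ∈ Y, Cfsg.classInner (part (R (φ θ)) (v θ)) (ρ₀ η) = 0 := by
    intro θ hθ η hη
    have hβ : η - Cfsg.conjFun η ∈ Cfsg.zspanOn Y {1}ᶜ := mem_zspanOn_compl_one
      (Submodule.sub_mem _ (mem_zS hη) (mem_zS (hYc η hη)))
      (by rw [Pi.sub_apply, conj_one hS (hYS hη), sub_self])
    rw [eq_part hS (hYS hη) hρ₀ (mem_zS hη) hβ.1 (hρ₀τ _ hβ)]
    conv_lhs => arg 2; rw [part]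
    rw [classInner_sum_right]
    refine Finset.sum_eq_zero fun a ha => ?_
    rw [classInner_smul_right, inner_part_other hS (hYS hη) (hφS θ hθ)
      (fun e' => hΘY θ hθ (show φ θ ∈ Y from e'.symm ▸ hη))
      (fun e' => hΘY θ hθ (show φ θ ∈ Y from e'.symm ▸ hYc η hη)) _ ha, mul_zero]
  -- `c - d ≤ 0`, and the Bessel bound
  have hineq : ∀ θ ∈ Θ, (c θ : ℤ) ^ 2 + (n - 1 : ℤ) * (c θ - d θ) ^ 2 ≤ (d θ : ℤ) ^ 2 := by
    intro θ hθ
    have hd1 := diff_mem hS (hφS θ hθ)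
    have hsum : Cfsg.classInner (-(v θ)) (τ (φ θ - Cfsg.conjFun (φ θ))) = (N θ : ℂ) := by
      rw [classInner_neg_left, hv, hS.isometry.2.2.1 _ (hwS θ hθ) _ hd1, hw, classInner_sub_left,
        classInner_sub_right, classInner_sub_right, inner_smul_int_left, inner_smul_int_left,
        hηφ θ hθ _ hη₀, hN θ hθ, conj_orth hS (hφS θ hθ),
        hS.orthogonal _ (hYS hη₀) _ (hS.conj_mem _ (hφS θ hθ))
          (fun e' => hΘY θ hθ (show φ θ ∈ Y from by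
            have h1 := hYc η₀ hη₀
            rw [e', conjFun_conjFun] at h1
            exact h1))]
      ring
    have hb := (part_bound hS (hφS θ hθ) (isGen_neg (hvgen θ hθ)) hsum).1
    simp only [classInner_neg_left, norm_neg] at hb
    have hres := part_residual (orthR hS (hφS θ hθ)) (normR hS (hφS θ hθ)) (v θ)
    rw [part_self (orthR hS (hφS θ hθ)) (normR hS (hφS θ hθ)), hvv θ hθ] at hres
    have horth : ∀ a ∈ sY, ∀ b ∈ sY, Cfsg.classInner (ρ₀ a) (ρ₀ b) =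
        if a = b then (((fun _ => 1) a : ℕ) : ℂ) else 0 := by
      intro a ha b hb
      rw [hρ₀.2.2.1 _ (mem_zS ((hmY a).1 ha)) _ (mem_zS ((hmY b).1 hb)), Nat.cast_one]
      exact hηη a ((hmY a).1 ha) b ((hmY b).1 hb)
    have h := bessel (s := sY) (f := ρ₀) (n := fun _ => 1) (fun _ _ => Nat.one_pos) horth
      (v := v θ - part (R (φ θ)) (v θ)) (u := fun η => if η = η₀ then c θ else c θ - d θ)
      fun η hη => by
        rw [classInner_sub_left, hρR θ hθ η ((hmY η).1 hη), sub_zero, hcY θ hθ η ((hmY η).1 hη)]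
    rw [hres, Complex.sub_re, Complex.ofReal_re] at h
    have e1 : ∑ η ∈ sY, ((if η = η₀ then c θ else c θ - d θ : ℤ) : ℝ) ^ 2 / ((1 : ℕ) : ℝ) =
        (c θ : ℝ) ^ 2 + ((n : ℝ) - 1) * ((c θ : ℝ) - d θ) ^ 2 := by
      rw [← Finset.add_sum_erase _ _ ((hmY _).2 hη₀), if_pos rfl,
        Finset.sum_congr rfl fun η hη => by rw [if_neg (Finset.ne_of_mem_erase hη)],
        Finset.sum_const, Finset.card_erase_of_mem ((hmY _).2 hη₀), nsmul_eq_mul,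
        Nat.cast_sub (by omega : 1 ≤ sY.card)]
      push_cast; ring
    rw [e1] at h
    have h2 : ((d θ : ℂ) * d θ + N θ).re = (d θ : ℝ) * d θ + N θ := by simp
    rw [h2] at h
    have h3 : ((c θ ^ 2 + (n - 1 : ℤ) * (c θ - d θ) ^ 2 : ℤ) : ℝ) ≤ (((d θ : ℤ) ^ 2 : ℤ) : ℝ) := by
      push_cast; nlinarith [hb]
    exact_mod_cast h3
  have hrange : ∀ θ ∈ Θ, 0 ≤ c θ ∧ c θ ≤ d θ := by
    intro θ hθ
    have h := hineq θ hθ
    have hn : (2 : ℤ) ≤ n := by exact_mod_cast hn2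
    have h' : c θ ^ 2 + (c θ - d θ) ^ 2 ≤ (d θ : ℤ) ^ 2 := by nlinarith [sq_nonneg (c θ - (d θ : ℤ))]
    have hd' : (0 : ℤ) ≤ d θ := Nat.cast_nonneg _
    constructor
    · by_contra hc'; push Not at hc'
      have := mul_pos (neg_pos.2 hc') (neg_pos.2 hc')
      have := mul_nonneg (neg_pos.2 hc').le hd'
      nlinarith
    · by_contra hc'; push Not at hc'
      have := mul_lt_mul'' hc' hc' hd' hd'
      nlinarith
  -- all `c = d`, or all `c = 0` and `Y` is a pair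
  obtain ⟨ρ, hρ, hρτ, hρY⟩ : ∃ ρ : (L → ℂ) → (G → ℂ), Cfsg.IsLinearIsometryOn (Cfsg.zspan Y) ρ ∧
      (∀ θ ∈ Cfsg.zspanOn Y {1}ᶜ, ρ θ = τ θ) ∧ ∀ θ ∈ Θ, ∀ η ∈ Y,
        Cfsg.classInner (v θ) (ρ η) = ((if η = η₀ then (d θ : ℤ) else 0 : ℤ) : ℂ) := by
    have hM' : ∑ θ ∈ Θ, c θ * (d θ : ℤ) = M * ∑ θ ∈ Θ, (d θ : ℤ) ^ 2 := by
      have h1 : ((∑ θ ∈ Θ, c θ * (d θ : ℤ) : ℤ) : ℂ) =
          ((M * ∑ θ ∈ Θ, (d θ : ℤ) ^ 2 : ℤ) : ℂ) := by
        rw [← hM]; push_cast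
        exact Finset.sum_congr rfl fun θ hθ => by rw [show Cfsg.classInner
          (τ ((Cfsg.charDegree (θ : K → ℂ) : ℤ) • η₀ - Cfsg.indFun K (θ : K → ℂ))) (ρ₀ η₀) =
            (c θ : ℂ) from hc θ hθ]
      exact_mod_cast h1
    rcases Θ.eq_empty_or_nonempty with rfl | ⟨θ₁, hθ₁⟩
    · exact ⟨ρ₀, hρ₀, hρ₀τ, fun θ hθ => absurd hθ (Finset.notMem_empty θ)⟩
    have hpos : 0 < ∑ θ ∈ Θ, (d θ : ℤ) ^ 2 := Finset.sum_pos
      (fun θ _ => pow_pos (by exact_mod_cast hd0 θ) 2) ⟨θ₁, hθ₁⟩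
    have hlo : 0 ≤ ∑ θ ∈ Θ, c θ * (d θ : ℤ) :=
      Finset.sum_nonneg fun θ hθ => mul_nonneg (hrange θ hθ).1 (Nat.cast_nonneg _)
    have hhi : ∑ θ ∈ Θ, c θ * (d θ : ℤ) ≤ ∑ θ ∈ Θ, (d θ : ℤ) ^ 2 := Finset.sum_le_sum fun θ hθ => by
      rw [sq]; exact mul_le_mul_of_nonneg_right (hrange θ hθ).2 (Nat.cast_nonneg _)
    rw [hM'] at hlo hhi
    rcases (show M = 0 ∨ M = 1 by
      have : 0 ≤ M := nonneg_of_mul_nonneg_left hlo hpos
      have : M ≤ 1 := by nlinarith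
      omega) with rfl | rfl
    · -- all `c = 0`
      rw [zero_mul] at hM'
      have hc0 : ∀ θ ∈ Θ, c θ = 0 := fun θ hθ => by
        have := (Finset.sum_eq_zero_iff_of_nonneg fun θ hθ =>
          mul_nonneg (hrange θ hθ).1 (Nat.cast_nonneg (α := ℤ) (d θ))).1 hM' θ hθ
        exact (mul_eq_zero.1 this).resolve_right (by exact_mod_cast (hd0 θ).ne')
      have hn : n = 2 := by
        have h := hineq θ₁ hθ₁
        rw [hc0 θ₁ hθ₁] at h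
        have hp : (0 : ℤ) < (d θ₁ : ℤ) ^ 2 := pow_pos (by exact_mod_cast hd0 θ₁) 2
        have : ((n : ℤ) - 1) ≤ 1 := by nlinarith
        omega
      obtain ⟨η₁, hη₁⟩ : ∃ η₁, sY.erase η₀ = {η₁} := Finset.card_eq_one.1 (by
        rw [Finset.card_erase_of_mem ((hmY _).2 hη₀)]; omega)
      have hη₁' : η₁ ∈ sY.erase η₀ := by simp [hη₁]
      have hY' : Y = {η₀, η₁} := by
        ext η
        rw [← hmY, ← Finset.insert_erase ((hmY _).2 hη₀), hη₁]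
        simp
      have hne1 : η₀ ≠ η₁ := (Finset.ne_of_mem_erase hη₁').symm
      have hη₁Y : η₁ ∈ Y := (hmY _).1 (Finset.mem_of_mem_erase hη₁')
      obtain ⟨ρ, hρ, hρτ, h0, h1⟩ := Sibley.swap_pair hY' hne1 hYirr
        (by rw [hYdeg _ hη₀, hYdeg _ hη₁Y]) hρ₀ hρ₀τ
      refine ⟨ρ, hρ, hρτ, fun θ hθ η hη => ?_⟩
      rw [hY'] at hη
      rcases hη with rfl | (rfl : η = η₁)
      · rw [h0, classInner_conj_symm, classInner_neg_left, map_neg, ← classInner_conj_symm,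
          hcY θ hθ _ hη₁Y, if_neg hne1.symm, if_pos rfl, hc0 θ hθ]
        push_cast; ring
      · rw [h1, classInner_conj_symm, classInner_neg_left, map_neg, ← classInner_conj_symm,
          hcY θ hθ _ hη₀, if_pos rfl, if_neg hne1.symm, hc0 θ hθ]
        push_cast; ring
    · -- all `c = d`
      rw [one_mul] at hM'
      have hcd : ∀ θ ∈ Θ, c θ = d θ := fun θ hθ => by
        have h' := (Finset.sum_eq_sum_iff_of_le fun θ hθ => show c θ * (d θ : ℤ) ≤ (d θ : ℤ) ^ 2 by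
          rw [sq]; exact mul_le_mul_of_nonneg_right (hrange θ hθ).2 (Nat.cast_nonneg _)).1 hM' θ hθ
        rw [sq] at h'
        exact mul_right_cancel₀ (by exact_mod_cast (hd0 θ).ne') h'
      refine ⟨ρ₀, hρ₀, hρ₀τ, fun θ hθ η hη => ?_⟩
      rw [hcY θ hθ η hη, hcd θ hθ, sub_self]
  -- the extension
  set T := sY ∪ Θ.image φ with hT
  have hTset : (↑T : Set (L → ℂ)) = Y ∪ φ '' ↑Θ := by simp [hT, sY]
  have hTS : ↑T ⊆ S := by
    rw [hTset]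
    rintro x (hx | ⟨θ, hθ, rfl⟩)
    · exact hYS hx
    · exact hφS θ hθ
  choose! F hF using fun x (hx : x ∈ T) => show ∃ k : ℤ, x 1 = (k : ℂ) * η₀ 1 by
    rcases Finset.mem_union.1 hx with h | h
    · exact ⟨1, by rw [hYdeg x ((hmY x).1 h), hYdeg η₀ hη₀]; simp⟩
    · obtain ⟨θ, hθ, rfl⟩ := Finset.mem_image.1 h
      exact ⟨d θ, by simp only [hφ, indFun_one, hdeg, hYdeg η₀ hη₀]; push_cast; ring⟩
  have hη₀T : η₀ ∈ T := Finset.mem_union_left _ ((hmY _).2 hη₀)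
  have hFY : ∀ η ∈ Y, F η = 1 := fun η hη => by
    have h := hF η (Finset.mem_union_left _ ((hmY _).2 hη))
    rw [hYdeg η hη, hYdeg η₀ hη₀] at h
    have : (F η : ℂ) = 1 := mul_right_cancel₀ he0 (by rw [← h, one_mul])
    exact_mod_cast this
  have hFX : ∀ θ ∈ Θ, F (φ θ) = d θ := fun θ hθ => by
    have h := hF (φ θ) (Finset.mem_union_right _ (Finset.mem_image_of_mem _ hθ))
    simp only [hφ, indFun_one, hdeg, hYdeg η₀ hη₀] at h
    have : (F (φ θ) : ℂ) = (d θ : ℂ) := mul_right_cancel₀ he0 (by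
      rw [← h]; ring)
    exact_mod_cast this
  let f : (L → ℂ) → (G → ℂ) := fun x =>
    if x ∈ Y then ρ x else F x • ρ η₀ - τ (F x • η₀ - x)
  have hfY : ∀ η ∈ Y, f η = ρ η := fun η h => if_pos h
  have hfX : ∀ θ ∈ Θ, f (φ θ) = (d θ : ℤ) • ρ η₀ - v θ := fun θ hθ => by
    simp only [f]
    rw [if_neg (hΘY θ hθ), hFX θ hθ]
  have hρρ : ∀ η ∈ Y, ∀ η' ∈ Y, Cfsg.classInner (ρ η) (ρ η') = if η = η' then 1 else 0 :=
    fun η h η' h' => by rw [hρ.2.2.1 _ (mem_zS h) _ (mem_zS h')]; exact hηη η h η' h'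
  have hvρ : ∀ θ ∈ Θ, ∀ η ∈ Y, Cfsg.classInner (ρ η) (v θ) =
      ((if η = η₀ then (d θ : ℤ) else 0 : ℤ) : ℂ) := fun θ hθ η hη =>
    inner_comm_int (hρY θ hθ η hη)
  have hXY : ∀ θ ∈ Θ, ∀ η ∈ Y, Cfsg.classInner ((d θ : ℤ) • ρ η₀ - v θ) (ρ η) = 0 := by
    intro θ hθ η hη
    rw [classInner_sub_left, inner_smul_int_left, hρρ η₀ hη₀ η hη, hρY θ hθ η hη]
    by_cases h : η = η₀
    · subst h; simp
    · rw [if_neg h, if_neg (Ne.symm h)]; simp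
  have hXX : ∀ θ ∈ Θ, ∀ θ' ∈ Θ, Cfsg.classInner ((d θ : ℤ) • ρ η₀ - v θ)
      ((d θ' : ℤ) • ρ η₀ - v θ') = Cfsg.classInner (φ θ) (φ θ') := by
    intro θ hθ θ' hθ'
    rw [classInner_sub_right, inner_smul_int_right, hXY θ hθ η₀ hη₀, classInner_sub_left,
      inner_smul_int_left, hvρ θ' hθ' η₀ hη₀, if_pos rfl, hv,
      hS.isometry.2.2.1 _ (hwS θ hθ) _ (hwS θ' hθ'), hw, classInner_sub_left, classInner_sub_right,
      classInner_sub_right, inner_smul_int_left, inner_smul_int_left, inner_smul_int_right,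
      inner_smul_int_right, hηη _ hη₀ _ hη₀, if_pos rfl, hηφ θ' hθ' _ hη₀, hφη θ hθ _ hη₀]
    push_cast; ring
  have hcase : ∀ x ∈ T, x ∈ Y ∨ ∃ θ ∈ Θ, φ θ = x := fun x hx =>
    (Finset.mem_union.1 hx).imp (hmY x).1 Finset.mem_image.1
  have hgram : ∀ a ∈ T, ∀ b ∈ T, Cfsg.classInner (f a) (f b) = Cfsg.classInner a b := by
    intro a ha b hb
    rcases hcase a ha with ha | ⟨θ, hθ, rfl⟩ <;> rcases hcase b hb with hb | ⟨θ', hθ', rfl⟩
    · rw [hfY a ha, hfY b hb, hρρ a ha b hb, hηη a ha b hb]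
    · rw [hfY a ha, hfX θ' hθ', hηφ θ' hθ' a ha]
      exact inner_comm_zero (hXY θ' hθ' a ha)
    · rw [hfX θ hθ, hfY b hb, hXY θ hθ b hb, hφη θ hθ b hb]
    · rw [hfX θ hθ, hfX θ' hθ', hXX θ hθ θ' hθ']
  have hgen : ∀ a ∈ T, Cfsg.IsGeneralizedCharacter G (f a) := by
    intro a ha
    rcases hcase a ha with ha | ⟨θ, hθ, rfl⟩
    · rw [hfY a ha]; exact hρ.2.2.2 _ (mem_zS ha)
    · rw [hfX θ hθ]
      refine isGen_sub ?_ (hvgen θ hθ)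
      rw [← Int.cast_smul_eq_zsmul ℂ]
      exact isGen_intSmul (hρ.2.2.2 _ (mem_zS hη₀)) _
  have hf : ∀ x ∈ T, f x - F x • f η₀ = τ (x - F x • η₀) := by
    intro x hx
    rcases hcase x hx with hx | ⟨θ, hθ, rfl⟩
    · rw [hFY x hx, hfY x hx, hfY η₀ hη₀, one_smul, one_smul,
        ← map_sub' (M := zS Y) hρ (mem_zS hx) (mem_zS hη₀)]
      exact hρτ _ (mem_zspanOn_compl_one (Submodule.sub_mem _ (mem_zS hx) (mem_zS hη₀))
        (by rw [Pi.sub_apply, hYdeg x hx, hYdeg η₀ hη₀, sub_self]))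
    · rw [hfX θ hθ, hfY η₀ hη₀, hFX θ hθ, sub_sub_cancel_left,
        show φ θ - (d θ : ℤ) • η₀ = -w θ by simp [hw],
        map_neg' (M := zOn S {1}ᶜ) hS.isometry (hwS θ hθ)]
  have hnz : ∃ α ∈ Cfsg.zspanOn (↑T : Set (L → ℂ)) {1}ᶜ, α ≠ 0 := by
    obtain ⟨α, hα, hne⟩ := exists_nonzero hS hYS ⟨η₀, hη₀⟩ hYc
    exact ⟨α, zspanOn_mono _ (hTset ▸ Set.subset_union_left) hα, hne⟩
  rw [← hTset]
  exact coherent_pivot hS T hTS hη₀T F hF f hgram hgen hf hnz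

end Cfsg.Agent.OddChar.TypeP.SibleyPrime
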