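import Cfsg.Agent.OddChar.TypeP.SibleyPrime.System
import Cfsg.Agent.OddChar.TypeP.SibleyPrime.Glue
import Cfsg.Agent.OddChar.TypeP.SibleyPrime.Congruence
import Cfsg.Agent.Lib.Coprime.FixedPointFree

/-!
# Sibley coherence for `L = K ⋊ W₁` with `K` a `p`-group
-/

set_option linter.style.haveILetI false
set_option linter.unusedSectionVars false

namespace Cfsg.Agent.OddChar.TypeP.SibleyPrime

open Cfsg.Agent.Characters Cfsg.Agent.OddChar.Isometry Cfsg.Agent.OddChar.Coherence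
open Cfsg.Agent.OddChar.CyclicTI Cfsg.Agent.OddChar.PrimeFrob
open scoped ComplexConjugate commutatorElement

universe u

section Quotient

variable {L : Type u} [Group L] [Fintype L] {K W₁ W₂ : Subgroup L} [hK : K.Normal]

/-- A nontrivial element of `W₁` fixes nothing in `K/N` when `W₂ ≤ N`. -/
theorem mem_of_fixed_mod (h : Setup K W₁ W₂) (hnil : Group.IsNilpotent K) {N : Subgroup L}
    (hW₂N : W₂ ≤ N) (hNK : N ≤ K) (hKN : K ≤ Subgroup.normalizer (N : Set L)) {w : L} (hw : w ∈ W₁)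
    (hw1 : w ≠ 1) (hwN : w ∈ Subgroup.normalizer (N : Set L)) {k : L} (hk : k ∈ K)
    (hfix : w * k * w⁻¹ * k⁻¹ ∈ N) : k ∈ N := by
  haveI := hnil
  set D : Subgroup L :=
    { carrier := {a | a ∈ Subgroup.normalizer (N : Set L) ∧ a * k * a⁻¹ * k⁻¹ ∈ N}
      one_mem' := ⟨Subgroup.one_mem _, by simp⟩
      mul_mem' := by
        rintro a b ⟨ha, ha'⟩ ⟨hb, hb'⟩
        refine ⟨Subgroup.mul_mem _ ha hb, ?_⟩
        have h1 := (Subgroup.mem_normalizer_iff.1 ha _).1 hb'
        have h2 := N.mul_mem h1 ha'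
        convert h2 using 1
        group
      inv_mem' := by
        rintro a ⟨ha, ha'⟩
        refine ⟨Subgroup.inv_mem _ ha, ?_⟩
        have h1 := (Subgroup.mem_normalizer_iff.1 (Subgroup.inv_mem _ ha) _).1 (N.inv_mem ha')
        convert h1 using 1
        group } with hD
  obtain ⟨c, hc, hkc⟩ := Coprime.exists_fixed_mod (A := Subgroup.zpowers w) (K := K) (N := N)
    ((coprime h).coprime_dvd_left (by
      rw [Nat.card_zpowers]; exact Subgroup.orderOf_dvd_natCard _ hw))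
    (Or.inr inferInstance) hNK hKN (Subgroup.zpowers_le.2 hwN) hk
    fun a ha => ((Subgroup.zpowers_le.2 (show w ∈ D from ⟨hwN, hfix⟩)) ha).2
  have hcW : c ∈ W₂ := by
    rw [← h.cent w hw hw1]
    refine ⟨hc.1, Subgroup.mem_centralizer_singleton_iff.2 ?_⟩
    exact (Subgroup.mem_centralizer_iff.1 hc.2 w (Subgroup.mem_zpowers w)).symm
  simpa using N.mul_mem (hW₂N hcW) (N.inv_mem hkc)

/-- `L/K'` is a Frobenius group with kernel `K/K'`. -/
theorem frob_derived (h : Setup K W₁ W₂) (hnil : Group.IsNilpotent K) (hW : W₂ ≤ ⁅K, K⁆) :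
    ∀ k ∈ K, k ∉ ⁅K, K⁆ → ∀ x : L, x * k * x⁻¹ * k⁻¹ ∈ ⁅K, K⁆ → x ∈ K := by
  intro k hk hkn x hx
  obtain ⟨a, ha, w, hw, rfl⟩ := exists_factor h x
  by_contra hxK
  have hw1 : w ≠ 1 := fun e => hxK (by rw [e, mul_one]; exact ha)
  refine hkn (mem_of_fixed_mod h hnil hW (Subgroup.commutator_le_left K K)
    (fun y _ => Induce.conj_mem_of_normal _ y) hw hw1 (Induce.conj_mem_of_normal _ w) hk ?_)
  -- modulo the derived group `a` acts trivially
  set π := QuotientGroup.mk' ⁅K, K⁆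
  have hwk : w * k * w⁻¹ ∈ K := hK.conj_mem k hk w
  have h1 : π (a * (w * k * w⁻¹)) = π ((w * k * w⁻¹) * a) := by
    refine QuotientGroup.eq.2 ?_
    have := Subgroup.commutator_mem_commutator (H₁ := K) (H₂ := K) (K.inv_mem hwk) (K.inv_mem ha)
    simpa [commutatorElement_def, mul_assoc] using this
  have h2 : π (a * w * k * (a * w)⁻¹ * k⁻¹) = 1 := (QuotientGroup.eq_one_iff _).2 hx
  refine (QuotientGroup.eq_one_iff _).1 ?_
  show π (w * k * w⁻¹ * k⁻¹) = 1
  rw [show a * w * k * (a * w)⁻¹ * k⁻¹ = a * (w * k * w⁻¹) * a⁻¹ * k⁻¹ by group] at h2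
  simp only [map_mul, map_inv] at h1 h2 ⊢
  rwa [h1, mul_inv_cancel_right] at h2

/-- The derived subgroup of a nontrivial nilpotent normal subgroup is smaller. -/
theorem derived_lt (hnil : Group.IsNilpotent K) (hK1 : K ≠ ⊥) : ⁅K, K⁆ < K := by
  haveI := hnil
  haveI : Nontrivial K := (Subgroup.nontrivial_iff_ne_bot K).2 hK1
  refine lt_of_le_not_ge (Subgroup.commutator_le_left K K) fun h => ?_
  have h1 : commutator K = ⊤ := by
    refine Subgroup.map_injective (Subgroup.subtype_injective K) ?_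
    rw [Subgroup.map_subtype_commutator, ← MonoidHom.range_eq_map, Subgroup.range_subtype]
    exact le_antisymm (Subgroup.commutator_le_left K K) h
  exact (Group.IsSolvable.commutator_lt_top_of_nontrivial K).ne h1

theorem linear_of_ker {θ : K → ℂ} (hθ : Cfsg.IsIrrCharacter K θ)
    (hker : ∀ a : K, (a : L) ∈ ⁅K, K⁆ → θ a = θ 1) : θ 1 = 1 := by
  obtain ⟨ψ, -, hψ, hψi⟩ := exists_deflate_quotient (⁅K, K⁆.subgroupOf K)
    (isCharacter_of_isIrr hθ) fun x hx => hker x hx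
  have hcomm : ∀ a b : K ⧸ ⁅K, K⁆.subgroupOf K, a * b = b * a := by
    intro a b
    obtain ⟨a, rfl⟩ := QuotientGroup.mk'_surjective _ a
    obtain ⟨b, rfl⟩ := QuotientGroup.mk'_surjective _ b
    rw [← map_mul, ← map_mul]
    refine QuotientGroup.eq.2 ?_
    have := Subgroup.commutator_mem_commutator (H₁ := K) (H₂ := K) (K.inv_mem b.2) (K.inv_mem a.2)
    simpa [commutatorElement_def, mul_assoc, Subgroup.mem_subgroupOf] using this
  have h1 := irr_degree_one_of_comm hcomm (hψi hθ)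
  rwa [← QuotientGroup.mk_one, hψ 1] at h1

omit hK in
theorem ker_of_linear {θ : K → ℂ} (hθ : Cfsg.IsIrrCharacter K θ) (h1 : θ 1 = 1) :
    ∀ a : K, (a : L) ∈ ⁅K, K⁆ → θ a = θ 1 := by
  intro a ha
  rw [← Subgroup.map_subtype_commutator] at ha
  obtain ⟨b, hb, e⟩ := ha
  have hba : b = a := Subtype.ext e
  subst hba
  have hle : commutator K ≤ (linearOfDegreeOne (isCharacter_of_isIrr hθ) h1).ker :=
    Abelianization.commutator_subset_ker _
  have := congrArg Units.val (MonoidHom.mem_ker.1 (hle hb))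
  rw [linearOfDegreeOne_apply] at this
  rw [this, h1, Units.val_one]

/-- The linear characters of `K` induce irreducibly. -/
theorem irr_of_linear (h : Setup K W₁ W₂) (hnil : Group.IsNilpotent K) (hW : W₂ ≤ ⁅K, K⁆)
    {θ : K → ℂ} (hθ : Cfsg.IsIrrCharacter K θ) (hθ1 : θ ≠ fun _ => 1) (h1 : θ 1 = 1) :
    Cfsg.IsIrrCharacter L (Cfsg.indFun K θ) := by
  refine by_contra fun hn => hθ1 ?_
  have hfix : ∀ x ∈ W₁, Fix K θ x := fun x hx => by_contra fun hf =>
    hn (irr_of_not_fix h hθ ⟨x, hx, hf⟩)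
  obtain ⟨w, hw, hw1⟩ := CyclicTI.exists_mem_ne_one h.ne₁
  set lam := linearOfDegreeOne (isCharacter_of_isIrr hθ) h1
  set N := lam.ker.map K.subtype with hN
  have hker : ⁅K, K⁆ ≤ N := by
    rw [← Subgroup.map_subtype_commutator]
    exact Subgroup.map_mono (Abelianization.commutator_subset_ker lam)
  have hmemN : ∀ y : K, (y : L) ∈ N ↔ θ y = 1 := fun y => by
    rw [hN, ← Subgroup.coe_subtype, Subgroup.mem_map_iff_mem K.subtype_injective, MonoidHom.mem_ker,
      Units.ext_iff, linearOfDegreeOne_apply, Units.val_one]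
  have hNn : ∀ g : L, (∀ y : K, θ ⟨g * y * g⁻¹, hK.conj_mem _ y.2 g⟩ = θ y) →
      g ∈ Subgroup.normalizer (N : Set L) := by
    intro g hg
    rw [Subgroup.mem_normalizer_iff]
    intro y
    by_cases hy : y ∈ K
    · rw [show y = ((⟨y, hy⟩ : K) : L) from rfl, hmemN,
        show g * ((⟨y, hy⟩ : K) : L) * g⁻¹ =
          ((⟨g * y * g⁻¹, hK.conj_mem _ hy g⟩ : K) : L) from rfl, hmemN, hg ⟨y, hy⟩]
    · refine ⟨fun h' => absurd (Subgroup.map_subtype_le _ h') hy, fun h' => absurd ?_ hy⟩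
      simpa [mul_assoc] using hK.conj_mem _ (Subgroup.map_subtype_le _ h') g⁻¹
  funext y
  refine (hmemN y).1 (mem_of_fixed_mod h hnil (hW.trans hker) (Subgroup.map_subtype_le _)
    (fun g hg => hNn g fun y => congrFun (fix_of_mem h hθ hg) y) hw hw1
    (hNn w fun y => congrFun (hfix w hw) y) y.2 ?_)
  rw [show w * (y : L) * w⁻¹ * (y : L)⁻¹ =
    (((⟨w * y * w⁻¹, hK.conj_mem _ y.2 w⟩ : K) * y⁻¹ : K) : L) from rfl, hmemN]
  have e : θ ⟨w * y * w⁻¹, hK.conj_mem _ y.2 w⟩ = θ y := congrFun (hfix w hw) y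
  rw [char_mul_of_degree_one (isCharacter_of_isIrr hθ) h1, e,
    ← char_mul_of_degree_one (isCharacter_of_isIrr hθ) h1, mul_inv_cancel, h1]

end Quotient

variable {G : Type u} [Group G] [Fintype G] (L : Subgroup G) [Fintype L]
  {K W₁ W₂ : Subgroup L} [hK : K.Normal]

set_option maxHeartbeats 1000000 in
/-- The proof from a suitable central subgroup. -/
theorem coherent_of_center (h : Setup K W₁ W₂)
    {R : (L → ℂ) → Finset (G → ℂ)}
    (hS : Cfsg.IsCoherenceSystem (Cfsg.inducedIrrAbove K ⊥) (fun α : L → ℂ => Cfsg.indFun L α) R)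
    (hnil : Group.IsNilpotent K) (hW₂ : W₂ ≤ ⁅K, K⁆) (hK1 : K ≠ ⊥)
    (Z : Subgroup L) [hZn : Z.Normal] (hZ : Z ≤ ⁅K, K⁆)
    (hZc : ∀ z ∈ Z, ∀ k ∈ K, z * k = k * z)
    (hcong : ∀ ψ : G → ℂ, Signed.IsSIrr ψ →
      (∀ z ∈ Z, ∀ z' ∈ Z, z ≠ 1 → z' ≠ 1 → ψ (z : G) = ψ (z' : G)) →
      ∃ j : ℤ, ∀ z ∈ Z, z ≠ 1 → ψ 1 - ψ (z : G) = ((Nat.card K : ℤ) * j : ℤ))
    (hconst : ∀ ρ : (L → ℂ) → (G → ℂ),
      Cfsg.IsLinearIsometryOn (Cfsg.zspan (Cfsg.inducedIrrAbove K ⁅K, K⁆)) ρ →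
      (∀ θ ∈ Cfsg.zspanOn (Cfsg.inducedIrrAbove K ⁅K, K⁆) {1}ᶜ, ρ θ = Cfsg.indFun L θ) →
      ∀ η₀ ∈ Cfsg.inducedIrrAbove K ⁅K, K⁆,
        ∀ z ∈ Z, ∀ z' ∈ Z, z ≠ 1 → z' ≠ 1 → ρ η₀ (z : G) = ρ η₀ (z' : G))
    (hbound : ∀ θ : K → ℂ, Cfsg.IsIrrCharacter K θ → θ ≠ (fun _ => 1) →
      (∀ a : K, (a : L) ∈ Z → θ a = θ 1) →
      Cfsg.indFun K θ ∉ Cfsg.inducedIrrAbove K ⁅K, K⁆ → ∀ f : ℕ, θ 1 = (f : ℂ) →
      2 * K.index * f ≤ (Nat.card Z - 1) * Z.relIndex K) :
    Cfsg.IsCoherent (Cfsg.inducedIrrAbove K ⊥) {1}ᶜ (fun α : L → ℂ => Cfsg.indFun L α) := by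
  classical
  haveI := Fintype.ofFinite K
  haveI := Fintype.ofFinite (Cfsg.IrrCharacter K)
  haveI hsolv : Group.IsSolvable K := by haveI := hnil; infer_instance
  set τ : (L → ℂ) → (G → ℂ) := fun α => Cfsg.indFun L α with hτdef
  set S := Cfsg.inducedIrrAbove K ⊥
  set Y := Cfsg.inducedIrrAbove K ⁅K, K⁆
  have hab := derived_lt hnil hK1
  have hYS : Y ⊆ S := above_mono K bot_le
  have hYc : ∀ η ∈ Y, Cfsg.conjFun η ∈ Y := fun η hη => above_conj K _ hη
  have hYdeg : ∀ η ∈ Y, η 1 = (K.index : ℂ) := by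
    rintro η ⟨θ, hθ, -, hker, rfl⟩
    rw [indFun_one, linear_of_ker hθ hker, mul_one]
  have hYirr : ∀ η ∈ Y, Cfsg.IsIrrCharacter L η := by
    rintro η ⟨θ, hθ, hne, hker, rfl⟩
    exact irr_of_linear h hnil hW₂ hθ hne (linear_of_ker hθ hker)
  obtain ⟨-, ρ, hρ, hρτ⟩ : Cfsg.IsCoherent Y {1}ᶜ τ :=
    coherent_abelian K hsolv hS ⁅K, K⁆ hab le_rfl
  obtain ⟨θ₀, hθ₀, hθ₀ne, hθ₀1, hθ₀ker⟩ := exists_linear_above K hsolv hab
  set η₀ := Cfsg.indFun K θ₀ with hη₀def
  have hη₀ : η₀ ∈ Y := ⟨θ₀, hθ₀, hθ₀ne, hθ₀ker, rfl⟩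
  set Zk : Subgroup K := Z.subgroupOf K with hZk
  have hZk' : Zk ≤ Subgroup.center K := fun z hz => Subgroup.mem_center_iff.2 fun k =>
    Subtype.ext (hZc _ hz _ k.2).symm
  have hψ : Signed.IsSIrr (ρ η₀) := isSIrr_image hYirr hρ hη₀
  obtain ⟨j, hj⟩ := hcong _ hψ (hconst ρ hρ hρτ η₀ hη₀)
  have hM := glue_hyp L K Zk hZk' (η₀ := η₀)
    (isGen_of_isCharacter (isCharacter_mem L K (hYS hη₀))) hψ.isGen j
    fun z hz hz1 => hj (z : L) hz fun e => hz1 (Subtype.ext e)
  set Θ := thetaSet Zk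
  have hΘ1 : ∀ θ ∈ Θ, (θ : K → ℂ) ≠ fun _ => 1 := fun θ hθ e => by
    obtain ⟨z, -, hne⟩ := mem_thetaSet.1 hθ
    exact hne (by rw [e])
  have hΘY : ∀ θ ∈ Θ, Cfsg.indFun K (θ : K → ℂ) ∉ Y := by
    rintro θ hθ ⟨θ', -, -, hker', e⟩
    obtain ⟨z, hz, hne⟩ := mem_thetaSet.1 hθ
    refine hne (theta_eq_one_of_ind K Z (hZ.trans (Subgroup.commutator_le_left K K)) hS θ.2
      (mem_above_bot L K θ.2 (hΘ1 θ hθ)) ?_)
    rw [e]
    exact ind_eq_one_on K Z (fun a ha => hker' a (hZ ha)) hz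
      (hZ.trans (Subgroup.commutator_le_left K K))
  have hT := glue hS hYS hYc hYirr hYdeg hρ hρτ hη₀ Θ hΘ1 hΘY hM
  -- a maximal coherent conjugation closed set above it
  set sY := (above_finite K ⁅K, K⁆).toFinset
  set T := sY ∪ Θ.image fun θ => Cfsg.indFun K (θ : K → ℂ) with hTdef
  have hTset : (↑T : Set (L → ℂ)) =
      Y ∪ (fun θ : Cfsg.IrrCharacter K => Cfsg.indFun K (θ : K → ℂ)) '' ↑Θ := by
    simp [hTdef, sY, Y, Set.image_image]
  set s := (above_finite K (⊥ : Subgroup L)).toFinset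
  have hms : ∀ φ, φ ∈ s ↔ φ ∈ S := fun φ => Set.Finite.mem_toFinset _
  have hTs : T ⊆ s := fun φ hφ => (hms φ).2 (by
    have hφ' : φ ∈ (↑T : Set (L → ℂ)) := hφ
    rw [hTset] at hφ'
    rcases hφ' with h' | ⟨θ, hθ, rfl⟩
    · exact hYS h'
    · exact mem_above_bot L K θ.2 (hΘ1 θ hθ))
  have hTc : ∀ φ ∈ T, Cfsg.conjFun φ ∈ T := fun φ hφ => by
    have hφ' : φ ∈ (↑T : Set (L → ℂ)) := hφ
    rw [hTset] at hφ'
    show Cfsg.conjFun φ ∈ (↑T : Set (L → ℂ))
    rw [hTset]
    rcases hφ' with h' | ⟨θ, hθ, rfl⟩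
    · exact Or.inl (hYc φ h')
    · refine Or.inr ⟨⟨fun x => conj ((θ : K → ℂ) x), isIrrCharacter_conj θ.2⟩, ?_, ?_⟩
      · obtain ⟨z, hz, hne⟩ := mem_thetaSet.1 hθ
        exact mem_thetaSet.2 ⟨z, hz, fun e => hne (by simpa using congrArg conj e)⟩
      · funext g
        show Cfsg.indFun K (fun x => conj ((θ : K → ℂ) x)) g = conj (Cfsg.indFun K _ g)
        rw [Cfsg.indFun, Cfsg.indFun, map_mul, map_sum]
        congr 1
        · simp
        · refine Finset.sum_congr rfl fun x _ => ?_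
          by_cases hx : x⁻¹ * g * x ∈ K
          · rw [CharTheory.IndBasic.extendByZero_of_mem K _ hx,
              CharTheory.IndBasic.extendByZero_of_mem K _ hx]
          · rw [CharTheory.IndBasic.extendByZero_of_notMem K _ hx,
              CharTheory.IndBasic.extendByZero_of_notMem K _ hx, map_zero]
  let 𝒳 := s.powerset.filter fun V => T ⊆ V ∧ (∀ φ ∈ V, Cfsg.conjFun φ ∈ V) ∧
    Cfsg.IsCoherent (↑V : Set (L → ℂ)) {1}ᶜ τ
  obtain ⟨V, hV, hmax⟩ := Finset.exists_max_image 𝒳 Finset.card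
    ⟨T, Finset.mem_filter.2 ⟨Finset.mem_powerset.2 hTs, subset_rfl, hTc, by rw [hTset]; exact hT⟩⟩
  obtain ⟨hVs, hTV, hVc, hVcoh⟩ := Finset.mem_filter.1 hV
  rw [Finset.mem_powerset] at hVs
  by_cases hall : s ⊆ V
  · have e := Finset.Subset.antisymm hVs hall
    rw [e] at hVcoh
    simpa [s] using hVcoh
  obtain ⟨χ, hχs, hχV⟩ := Finset.not_subset.1 hall
  have hχS : χ ∈ S := (hms χ).1 hχs
  have hχcV : Cfsg.conjFun χ ∉ V := fun h' => hχV (by simpa [conjFun_conjFun] using hVc _ h')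
  choose! d hd0 hd using fun φ (h' : φ ∈ S) => degree_pos hS h'
  choose! n hn0 hn using fun φ (h' : φ ∈ S) => norm_pos hS h'
  obtain ⟨θ, hθ, hθ1, -, hχθ⟩ := id hχS
  obtain ⟨f, hf0, hf⟩ := irr_one_pos hθ
  have hθZ : ∀ a : K, (a : L) ∈ Z → θ a = θ 1 := by
    intro a ha
    by_contra hne
    refine hχV (hTV ?_)
    show χ ∈ (↑T : Set (L → ℂ))
    rw [hTset]
    exact Or.inr ⟨⟨θ, hθ⟩, mem_thetaSet.2 ⟨a, ha, hne⟩, hχθ.symm⟩
  have hχY : Cfsg.indFun K θ ∉ Y := fun h' => hχV (hTV (by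
    show χ ∈ (↑T : Set (L → ℂ))
    rw [hTset, hχθ]; exact Or.inl h'))
  have hb := hbound θ hθ hθ1 hθZ hχY f hf
  have hdχ : d χ = K.index * f := by
    have := hd χ hχS
    rw [hχθ, indFun_one, hf, ← Nat.cast_mul, Nat.cast_inj] at this
    rw [hχθ]; exact this.symm
  have hdη : d η₀ = K.index := by
    have := hd η₀ (hYS hη₀)
    rw [hYdeg η₀ hη₀, Nat.cast_inj] at this
    exact this.symm
  have hη₀V : η₀ ∈ V := hTV (by
    show η₀ ∈ (↑T : Set (L → ℂ))
    rw [hTset]; exact Or.inl hη₀)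
  have hVS : ∀ φ ∈ V, φ ∈ S := fun φ h' => (hms φ).1 (hVs h')
  -- the degree sum
  have hsum : (K.index : ℝ) * (((Nat.card Z - 1) * Z.relIndex K : ℕ) + 1 : ℝ) ≤
      ∑ φ ∈ V, (d φ : ℝ) ^ 2 / (n φ : ℝ) := by
    rw [Finset.sum_congr rfl fun φ hφ =>
      (fibre_sum K hS (hVS φ hφ) (hd φ (hVS φ hφ)) (hn φ (hVS φ hφ))).symm, ← Finset.mul_sum]
    refine mul_le_mul_of_nonneg_left ?_ (Nat.cast_nonneg _)
    rw [← Finset.sum_biUnion ?disj]
    case disj =>
      intro φ _ φ' _ hne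
      refine Finset.disjoint_left.2 fun t h1 h2 => hne ?_
      rw [← (Finset.mem_filter.1 h1).2.2, ← (Finset.mem_filter.1 h2).2.2]
    have hZK : Z ≤ K := hZ.trans (Subgroup.commutator_le_left K K)
    have hcard : (Nat.card K : ℤ) = (Nat.card Z : ℤ) * (Z.relIndex K : ℤ) := by
      rw [← Nat.cast_mul, ← Subgroup.card_mul_index Zk,
        Nat.card_congr (Subgroup.subgroupOfEquivOfLe hZK).toEquiv]
      rfl
    have hΘsum : ∑ t ∈ Θ, (Cfsg.charDegree (t : K → ℂ) : ℝ) ^ 2 =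
        (((Nat.card Z - 1) * Z.relIndex K : ℕ) : ℝ) := by
      have h1 : ((∑ t ∈ Θ, (Cfsg.charDegree (t : K → ℂ) : ℤ) ^ 2 : ℤ)) =
          (((Nat.card Z - 1) * Z.relIndex K : ℕ) : ℤ) := by
        rw [sum_sq_thetaSet, hcard, Nat.cast_mul, Nat.cast_sub Nat.card_pos,
          show (Zk.index : ℤ) = (Z.relIndex K : ℤ) from rfl]
        push_cast; ring
      exact_mod_cast h1
    have hθ₀Θ : (⟨θ₀, hθ₀⟩ : Cfsg.IrrCharacter K) ∉ Θ := fun hm => hΘY _ hm hη₀
    rw [← hΘsum, show (1 : ℝ) = (Cfsg.charDegree θ₀ : ℝ) ^ 2 by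
      rw [Frobenius.deg_eq hθ₀ (f := 1) (by rw [hθ₀1, Nat.cast_one])]; simp, add_comm]
    refine le_trans (le_of_eq (Finset.sum_insert hθ₀Θ
      (f := fun t : Cfsg.IrrCharacter K => (Cfsg.charDegree (t : K → ℂ) : ℝ) ^ 2)).symm)
      (Finset.sum_le_sum_of_subset_of_nonneg ?_ fun _ _ _ => sq_nonneg _)
    intro t ht
    rw [Finset.mem_insert] at ht
    refine Finset.mem_biUnion.2 ⟨Cfsg.indFun K (t : K → ℂ), ?_, Finset.mem_filter.2
      ⟨Finset.mem_univ _, ?_, rfl⟩⟩
    · rcases ht with rfl | ht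
      · exact hη₀V
      · refine hTV ?_
        show _ ∈ (↑T : Set (L → ℂ))
        rw [hTset]; exact Or.inr ⟨t, ht, rfl⟩
    · rcases ht with rfl | ht
      · exact hθ₀ne
      · exact hΘ1 t ht
  have hcoh := extend_pair hS d n hd hn V (fun φ h' => hVS φ h') hVc hVcoh hχS hχV hχcV hη₀V
    (by rw [hdη, hdχ]; exact Dvd.intro _ rfl) (by
      refine lt_of_lt_of_le ?_ hsum
      rw [hdη, hdχ]
      have hb' : (2 * K.index * f : ℝ) ≤ (((Nat.card Z - 1) * Z.relIndex K : ℕ) : ℝ) := by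
        exact_mod_cast hb
      have hK0 : (0 : ℝ) < K.index :=
        Nat.cast_pos.2 (Nat.pos_of_ne_zero Subgroup.index_ne_zero_of_finite)
      push_cast at hb' ⊢
      nlinarith)
  set V' := insert χ (insert (Cfsg.conjFun χ) V) with hV'
  have hmem : V' ∈ 𝒳 := by
    refine Finset.mem_filter.2 ⟨Finset.mem_powerset.2 ?_, ?_, ?_, ?_⟩
    · exact Finset.insert_subset hχs
        (Finset.insert_subset ((hms _).2 (hS.conj_mem χ hχS)) hVs)
    · exact hTV.trans ((Finset.subset_insert _ _).trans (Finset.subset_insert _ _))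
    · intro φ hφ
      simp only [hV', Finset.mem_insert] at hφ ⊢
      rcases hφ with rfl | rfl | hφ
      · exact Or.inr (Or.inl rfl)
      · exact Or.inl (conjFun_conjFun χ)
      · exact Or.inr (Or.inr (hVc φ hφ))
    · rw [show (↑V' : Set (L → ℂ)) = ↑V ∪ {χ, Cfsg.conjFun χ} by
        rw [hV', Finset.coe_insert, Finset.coe_insert]; ext x; simp]
      exact hcoh
  have := hmax _ hmem
  have hlt : V.card < V'.card :=
    Finset.card_lt_card ⟨(Finset.subset_insert _ _).trans (Finset.subset_insert _ _),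
      fun h' => hχV (h' (Finset.mem_insert_self _ _))⟩
  omega

set_option maxHeartbeats 1000000 in
/-- Sibley coherence when `K` is a `p`-group. -/
theorem coherent_pgroup (h : Setup K W₁ W₂)
    (hW : Cfsg.IsSelfNormalizingCyclic (up L W₁) (up L W₂)) (hTI : KernelTI L K)
    (hodd : Odd (Nat.card L)) {K₀ : Subgroup G} (hK₀ : K = K₀.subgroupOf L) (hle : K₀ ≤ L)
    (hN : Subgroup.normalizer (K₀ : Set G) = L) (hTI₀ : Cfsg.IsTISubset (K₀ : Set G))
    {p : ℕ} [hp : Fact p.Prime] (hP : IsPGroup p K₀) (hnil : Group.IsNilpotent K)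
    (hW₂ : W₂ ≤ ⁅K, K⁆) {R : (L → ℂ) → Finset (G → ℂ)}
    (hS : Cfsg.IsCoherenceSystem (Cfsg.inducedIrrAbove K ⊥) (fun α : L → ℂ => Cfsg.indFun L α) R) :
    Cfsg.IsCoherent (Cfsg.inducedIrrAbove K ⊥) {1}ᶜ (fun α : L → ℂ => Cfsg.indFun L α) := by
  classical
  haveI := Fintype.ofFinite K
  haveI := hnil
  have hK1 : K ≠ ⊥ := fun e => h.ne₂ (le_bot_iff.1 (e ▸ h.le))
  have hKL : K < ⊤ := lt_top_iff_ne_top.2 fun e => by
    have := index_eq h
    rw [e, Subgroup.index_top] at this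
    have := (Subgroup.one_lt_card_iff_ne_bot W₁).2 h.ne₁
    omega
  have hab := derived_lt hnil hK1
  have hfrob := frob_derived h hnil hW₂
  have hcop : (Nat.card K).Coprime K.index := by rw [index_eq h]; exact (coprime h).symm
  have hc1 : commutator K ≠ ⊥ := fun e => h.ne₂ (le_bot_iff.1 (hW₂.trans (le_of_eq (by
    rw [← Subgroup.map_subtype_commutator, e, Subgroup.map_bot]))))
  set Z₁ := commutator K ⊓ Subgroup.center K
  have hZ₁ : Z₁ ≠ ⊥ := OddLocal.Coprime.inf_center_ne_bot inferInstance hc1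
  set Z₀ := Z₁.map K.subtype with hZ₀def
  haveI : Z₁.Characteristic := inferInstance
  haveI hZ₀n : Z₀.Normal := ConjAct.normal_of_characteristic_of_normal
  have hZ₀c : ∀ z ∈ Z₀, ∀ k ∈ K, z * k = k * z := by
    rintro - ⟨z, hz, rfl⟩ k hk
    exact congrArg Subtype.val (Subgroup.mem_center_iff.1 hz.2 ⟨k, hk⟩).symm
  have hZ₀K' : Z₀ ≤ ⁅K, K⁆ := by
    rw [← Subgroup.map_subtype_commutator]; exact Subgroup.map_mono inf_le_left
  have hZ₀ : Z₀ ≠ ⊥ := fun e =>
    hZ₁ ((Subgroup.map_eq_bot_iff_of_injective _ K.subtype_injective).1 e)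
  -- degrees
  have hdeg : ∀ (Z : Subgroup L) [Z.Normal], Z ≤ K → (∀ z ∈ Z, ∀ k ∈ K, z * k = k * z) →
      ∀ θ : K → ℂ, Cfsg.IsIrrCharacter K θ → (∀ a : K, (a : L) ∈ Z → θ a = θ 1) →
      ∀ f : ℕ, θ 1 = (f : ℂ) → f ^ 2 ≤ Z.relIndex K := by
    intro Z _ hZK hZc θ hθ hker f hf
    have := degree_bound K (B := Z) (C := K) (D := Z) le_rfl hZK le_rfl
      (fun x hx y hy => by rw [hZc x hx y hy]; simp) hθ hker hf
    rwa [Subgroup.relIndex_self, one_pow, one_mul] at this
  have hY : ∀ η ∈ Cfsg.inducedIrrAbove K ⁅K, K⁆, η 1 = (K.index : ℂ) := by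
    rintro η ⟨θ, hθ, -, hker, rfl⟩
    rw [indFun_one, linear_of_ker hθ hker, mul_one]
  have hYirr : ∀ η ∈ Cfsg.inducedIrrAbove K ⁅K, K⁆, Cfsg.IsIrrCharacter L η := by
    rintro η ⟨θ, hθ, hne, hker, rfl⟩
    exact irr_of_linear h hnil hW₂ hθ hne (linear_of_ker hθ hker)
  have hYZ : ∀ Z : Subgroup L, Z.Normal → Z ≤ ⁅K, K⁆ → ∀ η ∈ Cfsg.inducedIrrAbove K ⁅K, K⁆,
      ∀ z ∈ Z, η z = η 1 := by
    rintro Z hZn hZ η ⟨θ, -, -, hker, rfl⟩ z hz
    haveI := hZn
    exact ind_eq_one_on K Z (fun a ha => hker a (hZ ha)) hz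
      (hZ.trans (Subgroup.commutator_le_left K K))
  by_cases hcase : ∃ z ∈ Z₀, z ∈ W₂ ∧ z ≠ 1
  · -- a central subgroup of order `p` inside `W₂`
    obtain ⟨z₀, hz₀, hz₀W, hz₀1⟩ := hcase
    have hz₀K : z₀ ∈ K := h.le hz₀W
    obtain ⟨m, hm⟩ : ∃ m, z₀ ^ p ^ m = 1 := by
      have hz₀' : (z₀ : G) ∈ K₀ := by rw [hK₀] at hz₀K; exact hz₀K
      obtain ⟨m, hm⟩ := hP ⟨_, hz₀'⟩
      exact ⟨m, Subtype.ext (by simpa using congrArg Subtype.val hm)⟩
    obtain ⟨i, -, hi⟩ := (Nat.dvd_prime_pow hp.out).1 (orderOf_dvd_of_pow_eq_one hm)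
    have hi0 : i ≠ 0 := fun e => hz₀1 (orderOf_eq_one_iff.1 (by rw [hi, e, pow_zero]))
    set z := z₀ ^ p ^ (i - 1) with hzdef
    have hzord : orderOf z = p := by
      rw [hzdef, orderOf_pow_of_dvd (pow_ne_zero _ hp.out.pos.ne')
        (by rw [hi]; exact pow_dvd_pow p (by omega)), hi, Nat.pow_div (by omega) hp.out.pos,
        show i - (i - 1) = 1 by omega, pow_one]
    set Z := Subgroup.zpowers z with hZdef
    have hZW : Z ≤ W₂ := Subgroup.zpowers_le.2 (W₂.pow_mem hz₀W _)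
    have hZ₀' : Z ≤ Z₀ := Subgroup.zpowers_le.2 (Z₀.pow_mem hz₀ _)
    have hcenL : ∀ y ∈ Z, ∀ g : L, y * g = g * y := by
      intro y hy g
      obtain ⟨k, hk, w, hw, rfl⟩ := exists_factor h g
      have h1 := hZ₀c y (hZ₀' hy) k hk
      have h2 : y * w = w * y := by
        by_cases hw1 : w = 1
        · rw [hw1, mul_one, one_mul]
        · have := hZW hy
          rw [← h.cent w hw hw1] at this
          exact Subgroup.mem_centralizer_singleton_iff.1 this.2
      rw [← mul_assoc, h1, mul_assoc, h2, ← mul_assoc]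
    haveI hZn : Z.Normal := ⟨fun y hy g => by
      rwa [show g * y * g⁻¹ = y by rw [← hcenL y hy g, mul_inv_cancel_right]]⟩
    have hZK' : Z ≤ ⁅K, K⁆ := hZ₀'.trans hZ₀K'
    have hZK : Z ≤ K := hZK'.trans (Subgroup.commutator_le_left K K)
    have hZc : ∀ y ∈ Z, ∀ k ∈ K, y * k = k * y := fun y hy k _ => hcenL y hy k
    have hZp : Nat.card Z = p := by rw [hZdef, Nat.card_zpowers, hzord]
    have hp3 : 3 ≤ p := by
      have hd : p ∣ Nat.card L := hZp ▸ Subgroup.card_subgroup_dvd_card Z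
      have : p ≠ 2 := fun e => by
        obtain ⟨r, hr⟩ := hodd
        subst e; omega
      have := hp.out.two_le
      omega
    refine coherent_of_center L h hS hnil hW₂ hK1 Z hZK' hZc (fun ψ hψ hc =>
      congruence L K hK₀ hle hN hTI₀ hP hcop hK1 hodd Z (fun e => by
        have h1 : Nat.card Z = 1 := by rw [e]; simp
        omega) hZK hZc (fun a ha b hb _ _ => ?_) hψ hc) ?_ ?_
    · ext g
      simp only [Subgroup.mem_centralizer_singleton_iff]
      exact ⟨fun _ => (hcenL b hb g).symm, fun _ => (hcenL a ha g).symm⟩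
    · intro ρ hρ hρτ η₀ hη₀
      refine const_prime L K hTI hcop hodd (above_mono K bot_le) (fun η hη => above_conj K _ hη)
        hYirr hY ?_ hρ hρτ hη₀ Z hZp (hYZ Z hZn hZK')
      rintro η ⟨θ, hθ, hne, hker, rfl⟩ k hk
      have hkL : k.Coprime (Nat.card L) := hk.coprime_dvd_right (Subgroup.card_subgroup_dvd_card L)
      have hkK : k.Coprime (Nat.card K) := hkL.coprime_dvd_right (Subgroup.card_subgroup_dvd_card K)
      refine ⟨fun y => θ (y ^ k), PowTwist.isIrr_comp_pow hθ hkK, fun e => hne (funext fun y => ?_),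
        fun a ha => ?_, funext fun y => PowTwist.indFun_comp_pow K θ hkL y⟩
      · obtain ⟨x, rfl⟩ := (powCoprime (G := K) hkK.symm).surjective y
        exact congrFun e x
      · show θ (a ^ k) = θ (1 ^ k)
        rw [one_pow]
        exact hker _ (by rw [SubmonoidClass.coe_pow]; exact Subgroup.pow_mem _ ha k)
    · intro θ hθ hne hker hnY f hf
      have hf1 : f ≠ 1 := fun e =>
        hnY ⟨θ, hθ, hne, ker_of_linear hθ (by rw [hf, e, Nat.cast_one]), rfl⟩
      have hfpos : 0 < f := by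
        refine Nat.pos_of_ne_zero fun e => irr_one_ne_zero hθ ?_
        rw [hf, e, Nat.cast_zero]
      have hkey : K.index * f ≤ Z.relIndex K := by
        have hχS : Cfsg.indFun K θ ∈ Cfsg.inducedIrrAbove K ⊥ := mem_above_bot L K hθ hne
        by_cases hirr : Cfsg.IsIrrCharacter L (Cfsg.indFun K θ)
        · have hd : Cfsg.indFun K θ 1 = ((K.index * f : ℕ) : ℂ) := by
            rw [indFun_one, hf, Nat.cast_mul]
          have h2 : (K.index * f) ^ 2 ≤ Z.index := by
            haveI := Fintype.ofFinite (Cfsg.IrrCharacter L)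
            rw [← BlocksChars.Codegree.sum_degree_sq_over (G := L) Z]
            refine le_trans (le_of_eq ?_) (Finset.single_le_sum
              (f := fun χ : Cfsg.IrrCharacter L => Cfsg.charDegree (χ : L → ℂ) ^ 2)
              (fun _ _ => Nat.zero_le _)
              (Finset.mem_filter.2 ⟨Finset.mem_univ _, fun x hx => ind_eq_one_on K Z hker hx hZK⟩ :
                (⟨_, hirr⟩ : Cfsg.IrrCharacter L) ∈ _))
            simp [Frobenius.deg_eq hirr hd]
          rw [← Subgroup.relIndex_mul_index hZK] at h2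
          have h3 : K.index * f * f ≤ Z.relIndex K := by
            refine Nat.le_of_mul_le_mul_right ?_ (Nat.pos_of_ne_zero
              (Subgroup.index_ne_zero_of_finite (H := K)))
            calc K.index * f * f * K.index = (K.index * f) ^ 2 := by ring
              _ ≤ _ := h2
          exact le_trans (Nat.le_mul_of_pos_right _ hfpos) h3
        · obtain ⟨ξ, hξ⟩ := S1502.result W₁ W₂ (cyclicTI h) h.odd
          obtain ⟨ψ, ε, hψ, -, hε, hrep⟩ := exists_rep L h hW hξ hχS hirr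
          obtain ⟨a, ha⟩ := family_one_congr h hξ (pull L ψ)
          have h1 := congrFun hrep 1
          rw [indFun_one, hf, Pi.smul_apply, Finset.sum_apply,
            Finset.sum_congr rfl fun φ hφ => show ξ (pull L (φ * ψ)) 1 = ξ (pull L ψ) 1 by
              rw [pull_mul, family_apply_one h hξ (isLeft_pull L ((mem_lefts L).1 hφ))],
            Finset.sum_const, card_lefts L hW, smul_eq_mul, nsmul_eq_mul,
            show ξ (pull L ψ) 1 = (((1 + a * Nat.card W₁ : ℤ)) : ℂ) by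
              push_cast; linear_combination ha, index_eq h] at h1
          have hfodd : Odd f := by
            obtain ⟨f', hf', -, hdvd⟩ := irr_degree_dvd_card hθ
            rw [hf, Nat.cast_inj] at hf'
            exact (hodd.of_dvd_nat (Subgroup.card_subgroup_dvd_card K)).of_dvd_nat (by rw [hf']; exact hdvd)
          have heodd : Odd (Nat.card W₁) := hodd.of_dvd_nat (Subgroup.card_subgroup_dvd_card W₁)
          have hge : Nat.card W₁ ≤ f := by
            by_contra hlt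
            push Not at hlt
            obtain ⟨r, hr⟩ := heodd
            obtain ⟨s, hs⟩ := hfodd
            have he0 : ((Nat.card W₁ : ℕ) : ℂ) ≠ 0 := Nat.cast_ne_zero.2 Nat.card_pos.ne'
            have h2 : (f : ℤ) = 1 + a * Nat.card W₁ ∨ (f : ℤ) = -(1 + a * Nat.card W₁) := by
              rcases hε with e | e
              · refine Or.inl ?_
                have h3 : (f : ℂ) = ((1 + a * Nat.card W₁ : ℤ) : ℂ) :=
                  mul_left_cancel₀ he0 (by rw [h1, e]; ring)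
                exact_mod_cast h3
              · refine Or.inr ?_
                have h3 : (f : ℂ) = ((-(1 + a * Nat.card W₁) : ℤ) : ℂ) :=
                  mul_left_cancel₀ he0 (by rw [h1, e]; push_cast; ring)
                exact_mod_cast h3
            rcases h2 with h2 | h2
            · have h3 : (Nat.card W₁ : ℤ) ∣ (f : ℤ) - 1 := ⟨a, by linarith⟩
              have := Int.eq_zero_of_abs_lt_dvd h3 (by rw [abs_lt]; constructor <;> omega)
              omega
            · have h3 : (Nat.card W₁ : ℤ) ∣ (f : ℤ) + 1 := ⟨-a, by linarith⟩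
              have := Int.le_of_dvd (by omega) h3
              omega
          have h4 := hdeg Z hZK hZc θ hθ hker f hf
          rw [sq] at h4
          rw [index_eq h]
          exact le_trans (Nat.mul_le_mul_right f hge) h4
      have : 2 ≤ Nat.card Z - 1 := by omega
      calc 2 * K.index * f = 2 * (K.index * f) := mul_assoc _ _ _
        _ ≤ (Nat.card Z - 1) * Z.relIndex K := Nat.mul_le_mul this hkey
  · push Not at hcase
    -- `W₁` acts without fixed points on `Z₀`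
    have hZK : Z₀ ≤ K := hZ₀K'.trans (Subgroup.commutator_le_left K K)
    have hfree : ∀ w ∈ W₁, w ≠ 1 → ∀ z ∈ Z₀, z * w = w * z → z = 1 := by
      intro w hw hw1 z hz hzw
      by_contra hz1
      refine hz1 (hcase z hz ?_)
      rw [← h.cent w hw hw1]
      exact ⟨hZK hz, Subgroup.mem_centralizer_singleton_iff.2 hzw⟩
    -- every character nontrivial on `Z₀` induces irreducibly
    have hirr : ∀ χ ∈ Cfsg.inducedIrrAbove K ⊥ \ Cfsg.inducedIrrAbove K Z₀,
        Cfsg.IsIrrCharacter L χ := by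
      rintro χ ⟨⟨θ, hθ, hne, -, rfl⟩, hnot⟩
      refine by_contra fun hn => hnot ⟨θ, hθ, hne, ?_, rfl⟩
      have hfix : ∀ x ∈ W₁, Fix K θ x := fun x hx => by_contra fun hf =>
        hn (irr_of_not_fix h hθ ⟨x, hx, hf⟩)
      obtain ⟨w, hw, hw1⟩ := CyclicTI.exists_mem_ne_one h.ne₁
      let g : Z₀ → Z₀ := fun z =>
        ⟨w * z * w⁻¹ * (z : L)⁻¹, Z₀.mul_mem (hZ₀n.conj_mem _ z.2 w) (Z₀.inv_mem z.2)⟩
      have hg : Function.Injective g := by
        intro x y e
        have e' : w * (x : L) * w⁻¹ * (x : L)⁻¹ = w * y * w⁻¹ * (y : L)⁻¹ := congrArg Subtype.val e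
        have h1 : (y : L)⁻¹ * x * w = w * ((y : L)⁻¹ * x) := by
          have e2 := congrArg (fun u => (y : L)⁻¹ * (w⁻¹ * (u * x))) e'
          have e4 : (y : L)⁻¹ * x * w⁻¹ = w⁻¹ * ((y : L)⁻¹ * x) := by
            simpa [mul_assoc] using e2
          calc (y : L)⁻¹ * x * w = w * (w⁻¹ * ((y : L)⁻¹ * x)) * w := by group
            _ = w * ((y : L)⁻¹ * x * w⁻¹) * w := by rw [e4]
            _ = w * ((y : L)⁻¹ * x) := by group
        have := hfree w hw hw1 _ (Z₀.mul_mem (Z₀.inv_mem y.2) x.2) h1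
        exact Subtype.ext (inv_mul_eq_one.1 this).symm
      intro a ha
      obtain ⟨y, hy⟩ := Finite.surjective_of_injective hg ⟨a, ha⟩
      have hyK : (⟨(y : L), hZK y.2⟩ : K) ∈ Subgroup.center K :=
        Subgroup.mem_center_iff.2 fun k => Subtype.ext (hZ₀c _ y.2 _ k.2).symm
      obtain ⟨c, hc⟩ := CharTheory.Extraspecial.central_scalar hθ hyK
      have hy' : w * (y : L) * w⁻¹ * (y : L)⁻¹ = a := congrArg Subtype.val hy
      have e1 : θ (a * ⟨(y : L), hZK y.2⟩) = θ ⟨(y : L), hZK y.2⟩ := by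
        refine Eq.trans (congrArg θ (Subtype.ext ?_)) (congrFun (hfix w hw) ⟨(y : L), hZK y.2⟩)
        show (a : L) * y = w * y * w⁻¹
        rw [← hy']; group
      have e2 := hc 1
      rw [one_mul] at e2
      rw [hc, e2] at e1
      have hc0 : c ≠ 0 := fun e => by
        have := hc (⟨(y : L), hZK y.2⟩ : K)⁻¹
        rw [inv_mul_cancel, e, zero_mul] at this
        exact irr_one_ne_zero hθ this
      exact mul_left_cancel₀ hc0 e1
    obtain ⟨-, σ, hσ, hστ⟩ := coherent_central K Z₀ hZK hS inferInstance hodd hnil hab hKL hfrob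
      hZ₀ hZ₀c hirr
    refine coherent_of_center L h hS hnil hW₂ hK1 Z₀ hZ₀K' hZ₀c (fun ψ hψ hc =>
      congruence L K hK₀ hle hN hTI₀ hP hcop hK1 hodd Z₀ hZ₀ hZK hZ₀c (fun a ha b hb ha1 hb1 => ?_)
        hψ hc) ?_ ?_
    · have key : ∀ z ∈ Z₀, z ≠ 1 → Subgroup.centralizer ({z} : Set L) = K := by
        intro z hz hz1
        ext g
        rw [Subgroup.mem_centralizer_singleton_iff]
        refine ⟨fun hg => ?_, fun hg => (hZ₀c z hz g hg).symm⟩
        obtain ⟨k, hk, w, hw, rfl⟩ := exists_factor h g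
        by_cases hw1 : w = 1
        · rw [hw1, mul_one]; exact hk
        · exfalso
          refine hz1 (hfree w hw hw1 z hz ?_)
          have e1 := hZ₀c z hz k hk
          rw [← mul_assoc, e1, mul_assoc, mul_assoc] at hg
          exact (mul_left_cancel hg).symm
      rw [key a ha ha1, key b hb hb1]
    · intro ρ hρ hρτ η₀ hη₀ z hz z' hz' hz1 hz1'
      haveI := Fintype.ofFinite (Cfsg.IrrCharacter K)
      set X := Cfsg.inducedIrrAbove K ⊥ \ Cfsg.inducedIrrAbove K Z₀ with hXdef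
      set ψ := ρ η₀ with hψdef
      have hψg : Cfsg.IsGeneralizedCharacter G ψ := hρ.2.2.2 _ (mem_zS hη₀)
      have hr : Cfsg.IsGeneralizedCharacter K (fun y : K => ψ ((y : L) : G)) :=
        isGen_restrict K (isGen_restrict L hψg)
      set Θ := thetaSet (Z₀.subgroupOf K)
      have hX : ∀ t ∈ Θ, Cfsg.indFun K (t : K → ℂ) ∈ X := by
        intro t ht
        obtain ⟨a, ha, hne⟩ := mem_thetaSet.1 ht
        have ht1 : (t : K → ℂ) ≠ fun _ => 1 := fun e => hne (by rw [e])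
        refine ⟨mem_above_bot L K t.2 ht1, ?_⟩
        rintro ⟨θ', -, -, hker', e⟩
        refine hne (theta_eq_one_of_ind K Z₀ hZK hS t.2 (mem_above_bot L K t.2 ht1) ?_)
        rw [e]
        exact ind_eq_one_on K Z₀ hker' ha hZK
      have hXc : ∀ φ ∈ X, Cfsg.conjFun φ ∈ X := fun φ hφ =>
        ⟨above_conj K ⊥ hφ.1, fun h' => hφ.2 (by simpa [conjFun_conjFun] using above_conj K Z₀ h')⟩
      have hXY : ∀ φ ∈ X, φ ∉ Cfsg.inducedIrrAbove K ⁅K, K⁆ := fun φ hφ h' =>
        hφ.2 (above_mono K hZ₀K' h')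
      have horth : ∀ φ ∈ X, Cfsg.classInner (σ φ) ψ = 0 := by
        intro φ hφ
        have hφd : φ - Cfsg.conjFun φ ∈ Cfsg.zspanOn X {1}ᶜ := mem_zspanOn_compl_one
          (Submodule.sub_mem _ (mem_zS hφ) (mem_zS (hXc φ hφ)))
          (by rw [Pi.sub_apply, conj_one hS hφ.1, sub_self])
        have hηS := above_mono K (bot_le : ⊥ ≤ ⁅K, K⁆) hη₀
        have hηd : η₀ - Cfsg.conjFun η₀ ∈ Cfsg.zspanOn (Cfsg.inducedIrrAbove K ⁅K, K⁆) {1}ᶜ :=
          mem_zspanOn_compl_one (Submodule.sub_mem _ (mem_zS hη₀) (mem_zS (above_conj K _ hη₀)))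
            (by rw [Pi.sub_apply, conj_one hS hηS, sub_self])
        rw [eq_part hS hφ.1 hσ (mem_zS hφ) hφd.1 (hστ _ hφd), hψdef,
          eq_part hS hηS hρ (mem_zS hη₀) hηd.1 (hρτ _ hηd)]
        conv_lhs => arg 2; rw [part]
        rw [classInner_sum_right]
        refine Finset.sum_eq_zero fun a ha => ?_
        rw [classInner_smul_right, inner_part_other hS hηS hφ.1 (fun e => hXY φ hφ (e ▸ hη₀))
          (fun e => hXY φ hφ (e ▸ above_conj K _ hη₀)) _ ha, mul_zero]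
      have hB : ∀ t ∈ Θ, ∀ t' ∈ Θ,
          (Cfsg.charDegree (t' : K → ℂ) : ℂ) *
            Cfsg.classInner (fun y : K => ψ ((y : L) : G)) (t : K → ℂ) =
          (Cfsg.charDegree (t : K → ℂ) : ℂ) *
            Cfsg.classInner (fun y : K => ψ ((y : L) : G)) (t' : K → ℂ) := by
        intro t ht t' ht'
        set f : ℤ := (Cfsg.charDegree (t : K → ℂ) : ℤ) with hfdef
        set f' : ℤ := (Cfsg.charDegree (t' : K → ℂ) : ℤ) with hf'def
        have hβ : f' • Cfsg.indFun K (t : K → ℂ) - f • Cfsg.indFun K (t' : K → ℂ) ∈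
            Cfsg.zspanOn X {1}ᶜ :=
          mem_zspanOn_compl_one (Submodule.sub_mem _ (Submodule.smul_mem _ _ (mem_zS (hX t ht)))
            (Submodule.smul_mem _ _ (mem_zS (hX t' ht')))) (by
            show f' • Cfsg.indFun K (t : K → ℂ) 1 - f • Cfsg.indFun K (t' : K → ℂ) 1 = 0
            simp only [hfdef, hf'def, indFun_one, zsmul_eq_mul, Int.cast_natCast,
              ← BlocksChars.Degrees.charDegree_cast]
            ring)
        have h0 : Cfsg.classInner
            (Cfsg.indFun L (f' • Cfsg.indFun K (t : K → ℂ) - f • Cfsg.indFun K (t' : K → ℂ))) ψ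
              = 0 := by
          refine Eq.trans (congrArg (fun u => Cfsg.classInner u ψ) (hστ _ hβ).symm) ?_
          rw [map_sub' (M := zS X) hσ (Submodule.smul_mem _ _ (mem_zS (hX t ht)))
            (Submodule.smul_mem _ _ (mem_zS (hX t' ht'))), hσ.2.1 _ (mem_zS (hX t ht)),
            hσ.2.1 _ (mem_zS (hX t' ht')), classInner_sub_left, inner_smul_int_left,
            inner_smul_int_left, horth _ (hX t ht), horth _ (hX t' ht'), mul_zero, mul_zero,
            sub_zero]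
        have hrec : ∀ s : Cfsg.IrrCharacter K,
            Cfsg.classInner (Cfsg.indFun K (s : K → ℂ)) (fun y : L => ψ y) =
              Cfsg.classInner (fun y : K => ψ ((y : L) : G)) (s : K → ℂ) := fun s =>
          (frobenius_reciprocity K (s : K → ℂ)
            (isGen_isClassFunction (isGen_restrict L hψg))).trans
            (Signed.gen_inner_comm (isGen_of_isCharacter (irr_isCharacter s)) hr)
        rw [frobenius_reciprocity L _ (isGen_isClassFunction hψg), classInner_sub_left,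
          inner_smul_int_left, inner_smul_int_left, hrec t, hrec t'] at h0
        simp only [hfdef, hf'def, Int.cast_natCast] at h0
        linear_combination h0
      obtain ⟨t₀, ht₀, ht₀z⟩ :
          ∃ t : K → ℂ, Cfsg.IsIrrCharacter K t ∧ t ⟨z, hZK hz⟩ ≠ t 1 :=
        exists_irr_ne fun e => hz1 (congrArg Subtype.val e)
      have hΘt₀ : (⟨t₀, ht₀⟩ : Cfsg.IrrCharacter K) ∈ Θ := mem_thetaSet.2 ⟨⟨z, hZK hz⟩, hz, ht₀z⟩
      set B₀ := Cfsg.classInner (fun y : K => ψ ((y : L) : G)) t₀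
      have hval : ∀ a : L, ∀ ha : a ∈ Z₀, a ≠ 1 →
          (Cfsg.charDegree t₀ : ℂ) * (ψ 1 - ψ (a : G)) = B₀ * (Nat.card K : ℂ) := by
        intro a ha ha1
        set ak : K := ⟨a, hZK ha⟩
        have hak : ak ≠ 1 := fun e => ha1 (congrArg Subtype.val e)
        have hreg : ∑ t : Cfsg.IrrCharacter K, (t : K → ℂ) 1 * ((t : K → ℂ) 1 - (t : K → ℂ) ak) =
            (Nat.card K : ℂ) := by
          have e : ∀ x : K, ∑ t : Cfsg.IrrCharacter K, (t : K → ℂ) 1 * (t : K → ℂ) x =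
              if x = 1 then (Nat.card K : ℂ) else 0 := fun x => by
            have h' := congrFun (regular_eq_sum (G := K)) x
            simpa [Finset.sum_apply] using h'.symm
          simp only [mul_sub, Finset.sum_sub_distrib]
          rw [e, e, if_pos rfl, if_neg hak, sub_zero]
        have hexp := classFun_eq_sum (isGen_isClassFunction hr)
        have e1 : ψ 1 - ψ (a : G) = ∑ t : Cfsg.IrrCharacter K,
            Cfsg.classInner (fun y : K => ψ ((y : L) : G)) (t : K → ℂ) *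
              ((t : K → ℂ) 1 - (t : K → ℂ) ak) := by
          have e2 : ψ 1 - ψ (a : G) =
              (fun y : K => ψ ((y : L) : G)) 1 - (fun y : K => ψ ((y : L) : G)) ak := by simp [ak]
          rw [e2]
          conv_lhs => rw [hexp]
          simp only [Finset.sum_apply, Pi.smul_apply, smul_eq_mul, ← Finset.sum_sub_distrib,
            ← mul_sub]
        rw [e1, ← hreg, Finset.mul_sum, Finset.mul_sum]
        refine Finset.sum_congr rfl fun t _ => ?_
        by_cases ht : t ∈ Θ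
        · rw [← mul_assoc, show (Cfsg.charDegree t₀ : ℂ) *
            Cfsg.classInner (fun y : K => ψ ((y : L) : G)) (t : K → ℂ) =
              (Cfsg.charDegree (t : K → ℂ) : ℂ) * B₀ from hB t ht _ hΘt₀,
            ← BlocksChars.Degrees.charDegree_cast]
          ring
        · have : (t : K → ℂ) ak = (t : K → ℂ) 1 := by
            by_contra hn
            exact ht (mem_thetaSet.2 ⟨ak, ha, hn⟩)
          rw [this, sub_self]; ring
      have hd0 : (Cfsg.charDegree t₀ : ℂ) ≠ 0 := by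
        rw [show (Cfsg.charDegree t₀ : ℂ) = t₀ 1 from
          BlocksChars.Degrees.charDegree_cast (⟨t₀, ht₀⟩ : Cfsg.IrrCharacter K)]
        exact irr_one_ne_zero ht₀
      have e3 := mul_left_cancel₀ hd0 ((hval z hz hz1).trans (hval z' hz' hz1').symm)
      linear_combination -e3
    · intro θ hθ _ hker _ f hf
      have hfpos : 0 < f := by
        refine Nat.pos_of_ne_zero fun e => irr_one_ne_zero hθ ?_
        rw [hf, e, Nat.cast_zero]
      have hoddZ : Odd (Nat.card Z₀) := hodd.of_dvd_nat (Subgroup.card_subgroup_dvd_card Z₀)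
      have heodd : Odd (Nat.card W₁) := hodd.of_dvd_nat (Subgroup.card_subgroup_dvd_card W₁)
      have hdvd : Nat.card W₁ ∣ Nat.card Z₀ - 1 := by
        refine (Nat.modEq_iff_dvd' Nat.card_pos).1 (Nat.ModEq.symm ?_)
        refine Coprime.fpf_card_mod (fun w _ => Induce.conj_mem_of_normal Z₀ w) ?_
        intro w hw hw1
        rw [eq_bot_iff]
        rintro x ⟨hx, hx'⟩
        exact Subgroup.mem_bot.2
          (hfree w hw hw1 x hx (Subgroup.mem_centralizer_singleton_iff.1 hx'))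
      have h1 := two_mul_add_one_le heodd hoddZ ((Subgroup.one_lt_card_iff_ne_bot Z₀).2 hZ₀) hdvd
      have h2 : f ≤ Z₀.relIndex K :=
        le_trans (Nat.le_self_pow two_ne_zero f) (hdeg Z₀ hZK hZ₀c θ hθ hker f hf)
      rw [index_eq h]
      exact Nat.mul_le_mul (by omega) h2

end Cfsg.Agent.OddChar.TypeP.SibleyPrime
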