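import Cfsg.Agent.OddChar.TypeP.SibleyPrime.Columns
import Cfsg.Agent.S1502

/-!
# The coherence system of `L = K ⋊ W₁` (Peterfalvi 5.3 for a TI kernel)
-/

set_option linter.style.haveILetI false
set_option linter.unusedSectionVars false

namespace Cfsg.Agent.OddChar.TypeP.SibleyPrime

open Cfsg.Agent.Characters Cfsg.Agent.OddChar.Isometry Cfsg.Agent.OddChar.Coherence
open Cfsg.Agent.OddChar.CyclicTI Cfsg.Agent.OddChar.PrimeFrob
open Cfsg.Agent.CharTheory.IndBasic (extendByZero_of_mem extendByZero_of_notMem)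
open scoped ComplexConjugate

universe u

section Grid

variable {G : Type u} [Group G] [Fintype G] {V₁ V₂ : Subgroup G}
  {η : (↥(V₁ ⊔ V₂) →* ℂˣ) → (G → ℂ)}

/-- A difference of two irreducibles vanishing on `V` is orthogonal to every `η ω`. -/
theorem inner_eta_eq_zero (hW : Cfsg.IsSelfNormalizingCyclic V₁ V₂)
    (hη : Cfsg.IsCyclicTIFamily V₁ V₂ η) (h₁ : 3 ≤ Nat.card V₁) (h₂ : 3 ≤ Nat.card V₂)
    {a b : G → ℂ} (ha : Signed.IsSIrr a) (hb : Signed.IsSIrr b)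
    (hab : Cfsg.classInner a b = 0)
    (hV : ∀ w : ↥(V₁ ⊔ V₂), (w : G) ∉ V₁ → (w : G) ∉ V₂ → (a + b) w = 0)
    (ω : ↥(V₁ ⊔ V₂) →* ℂˣ) : Cfsg.classInner a (η ω) = 0 := by
  classical
  haveI := Fintype.ofFinite (↥(V₁ ⊔ V₂) →* ℂˣ)
  by_contra hne
  set c := fun ω => Cfsg.classInner (a + b) (η ω) with hc
  have hcl : Cfsg.IsClassFunction G (a + b) := isGen_isClassFunction (isGen_add ha.isGen hb.isGen)
  have horth : ∀ {x : G → ℂ} {u u' : ↥(V₁ ⊔ V₂) →* ℂˣ}, Signed.IsSIrr x →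
      Cfsg.classInner x (η u) ≠ 0 → Cfsg.classInner x (η u') ≠ 0 → u = u' := by
    intro x u u' hx h1 h2
    by_contra huu
    have h0 := hη.orthonormal u u'
    rw [if_neg huu] at h0
    rcases (hx.inner_cases (hη.irr_or_neg u)).resolve_left h1 with e | e <;> rw [e] at h2
    · exact h2 h0
    · exact h2 (by rw [classInner_neg_left, h0, neg_zero])
  have hb0 : Cfsg.classInner b (η ω) = 0 := by
    rcases (ha.inner_cases (hη.irr_or_neg ω)).resolve_left hne with e | e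
    · rw [← e]; exact inner_comm_zero hab
    · have h0 := inner_comm_zero hab
      rw [e, classInner_conj_symm, classInner_neg_left, map_neg, ← classInner_conj_symm,
        neg_eq_zero] at h0
      exact h0
  have hcω : c ω ≠ 0 := by simpa [hc, classInner_add_left, hb0] using hne
  have huniq : ∀ u u', u ≠ ω → u' ≠ ω → c u ≠ 0 → c u' ≠ 0 → u = u' := by
    intro u u' hu hu' h1 h2
    have hau : ∀ v, v ≠ ω → Cfsg.classInner a (η v) = 0 := fun v hv =>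
      by_contra fun hh => hv (horth ha hh hne)
    simp only [hc, classInner_add_left, hau u hu, hau u' hu', zero_add] at h1 h2
    exact horth hb h1 h2
  obtain ⟨φ₀, ψ₀, hφ₀, hψ₀, rfl⟩ := (split_of hW).exists_split ω
  have hrel : ∀ φ ψ, IsLeft φ → IsRight ψ → c (φ * ψ) = c φ + c ψ - c 1 := fun φ ψ hφ hψ =>
    relation_of_vanish hW hη hcl hV hφ hψ
  set P := Finset.univ.filter fun φ : ↥(V₁ ⊔ V₂) →* ℂˣ => IsLeft φ ∧ φ ≠ φ₀
  set Q := Finset.univ.filter fun ψ : ↥(V₁ ⊔ V₂) →* ℂˣ => IsRight ψ ∧ ψ ≠ ψ₀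
  have hP : 1 < P.card := by
    have e : (Finset.univ.filter fun φ : ↥(V₁ ⊔ V₂) →* ℂˣ => IsLeft φ).erase φ₀ = P := by
      ext x; simp [P, and_comm]
    rw [← e, Finset.card_erase_of_mem (by simp [hφ₀]), ← Fintype.card_subtype,
      ← Nat.card_eq_fintype_card, card_left (split_of hW) (comm_of hW)]
    omega
  have hQ : 1 < Q.card := by
    have e : (Finset.univ.filter fun ψ : ↥(V₁ ⊔ V₂) →* ℂˣ => IsRight ψ).erase ψ₀ = Q := by
      ext x; simp [Q, and_comm]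
    rw [← e, Finset.card_erase_of_mem (by simp [hψ₀]), ← Fintype.card_subtype,
      ← Nat.card_eq_fintype_card, card_right (split_of hW) (comm_of hW)]
    omega
  obtain ⟨φ₁, hφ₁, φ₂, hφ₂, hφ12⟩ := Finset.one_lt_card.1 hP
  obtain ⟨ψ₁, hψ₁, ψ₂, hψ₂, hψ12⟩ := Finset.one_lt_card.1 hQ
  simp only [P, Q, Finset.mem_filter, Finset.mem_univ, true_and] at hφ₁ hφ₂ hψ₁ hψ₂
  have inj : ∀ {x x' y y' : ↥(V₁ ⊔ V₂) →* ℂˣ}, IsLeft x → IsLeft x' → IsRight y → IsRight y' →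
      x * y = x' * y' → x = x' ∧ y = y' := fun h1 h2 h3 h4 e =>
    (split_of hW).mul_inj h1 h2 h3 h4 e
  -- each off-cross rectangle contains a nonzero corner different from `(φ₀, ψ₀)`
  have hcorner : ∀ φ ψ, IsLeft φ → IsRight ψ → φ ≠ φ₀ → ψ ≠ ψ₀ →
      ∃ φ' ψ', IsLeft φ' ∧ IsRight ψ' ∧ φ' * ψ' ≠ φ₀ * ψ₀ ∧ c (φ' * ψ') ≠ 0 ∧
        (φ' = φ ∧ ψ' = ψ₀ ∨ φ' = φ₀ ∧ ψ' = ψ ∨ φ' = φ ∧ ψ' = ψ) := by
    intro φ ψ hφ hψ hne1 hne2
    by_cases k1 : c (φ * ψ₀) = 0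
    · by_cases k2 : c (φ₀ * ψ) = 0
      · refine ⟨φ, ψ, hφ, hψ, fun e => hne1 (inj hφ hφ₀ hψ hψ₀ e).1, fun k3 => hcω ?_,
          Or.inr (Or.inr ⟨rfl, rfl⟩)⟩
        have r0 := hrel φ₀ ψ₀ hφ₀ hψ₀
        rw [hrel φ ψ₀ hφ hψ₀] at k1
        rw [hrel φ₀ ψ hφ₀ hψ] at k2
        rw [hrel φ ψ hφ hψ] at k3
        rw [r0]; linear_combination k1 + k2 - k3
      · exact ⟨φ₀, ψ, hφ₀, hψ, fun e => hne2 (inj hφ₀ hφ₀ hψ hψ₀ e).2, k2,
          Or.inr (Or.inl ⟨rfl, rfl⟩)⟩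
    · exact ⟨φ, ψ₀, hφ, hψ₀, fun e => hne1 (inj hφ hφ₀ hψ₀ hψ₀ e).1, k1, Or.inl ⟨rfl, rfl⟩⟩
  obtain ⟨x, y, hx, hy, n1, c1, s1⟩ := hcorner φ₁ ψ₁ hφ₁.1 hψ₁.1 hφ₁.2 hψ₁.2
  obtain ⟨x', y', hx', hy', n2, c2, s2⟩ := hcorner φ₂ ψ₂ hφ₂.1 hψ₂.1 hφ₂.2 hψ₂.2
  obtain ⟨rfl, rfl⟩ := inj hx hx' hy hy' (huniq _ _ n1 n2 c1 c2)
  rcases s1 with ⟨rfl, rfl⟩ | ⟨rfl, rfl⟩ | ⟨rfl, rfl⟩ <;>
    rcases s2 with ⟨e1, e2⟩ | ⟨e1, e2⟩ | ⟨e1, e2⟩ <;>
    first
      | exact hφ12 e1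
      | exact hψ12 e2
      | exact hφ₁.2 e1
      | exact hψ₁.2 e2
      | exact hφ₂.2 e1.symm
      | exact hψ₂.2 e2.symm

end Grid

variable {G : Type u} [Group G] [Fintype G] (L : Subgroup G) [Fintype L]
  {K W₁ W₂ : Subgroup L} [hK : K.Normal]

/-- Functions supported on `K` induce to functions vanishing on `V`. -/
theorem ind_vanish_V (h : Setup K W₁ W₂) {β : L → ℂ} (hoff : ∀ y, y ∉ K → β y = 0)
    (w : ↥(up L W₁ ⊔ up L W₂)) (hw : (w : G) ∉ up L W₂) : Cfsg.indFun L β w = 0 := by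
  refine Induce.indFun_eq_zero L β _ fun x => ?_
  by_cases hx : x⁻¹ * (w : G) * x ∈ L
  · rw [extendByZero_of_mem L β hx]
    refine hoff _ fun hxK => hw ?_
    have hcop : (Nat.card K).Coprime K.index := by rw [index_eq h]; exact (coprime h).symm
    have h1 := Subgroup.orderOf_dvd_natCard K hxK
    rw [← Subgroup.orderOf_coe, Subgroup.coe_mk, show x⁻¹ * (w : G) * x = MulAut.conj x⁻¹ (w : G) by
      simp, MulEquiv.orderOf_eq] at h1
    have hy : ((lift L (W₁ := W₁) (W₂ := W₂)).symm w : L) ∈ K :=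
      mem_of_orderOf_dvd L K hcop (by rwa [← Subgroup.orderOf_coe, lift_symm_coe])
    rw [← lift_symm_coe L w]
    exact (mem_up_iff L).2 (mem_W₂_of_mem_K h ((lift L (W₁ := W₁) (W₂ := W₂)).symm w).2 hy)
  · exact extendByZero_of_notMem L β hx

set_option maxHeartbeats 1000000 in
/-- `(S, Ind, R)` is a coherence system. -/
theorem exists_system (h : Setup K W₁ W₂)
    (hW : Cfsg.IsSelfNormalizingCyclic (up L W₁) (up L W₂)) (hTI : KernelTI L K)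
    (hodd : Odd (Nat.card L)) (hne : (Cfsg.inducedIrrAbove K ⊥).Nonempty) :
    ∃ R : (L → ℂ) → Finset (G → ℂ), Cfsg.IsCoherenceSystem (Cfsg.inducedIrrAbove K ⊥)
      (fun α : L → ℂ => Cfsg.indFun L α) R := by
  classical
  obtain ⟨ξ, hξ⟩ := S1502.result W₁ W₂ (cyclicTI h) h.odd
  obtain ⟨η, hη⟩ := S1502.result (up L W₁) (up L W₂) hW (odd_card L h hW)
  have hcop : (Nat.card K).Coprime K.index := by rw [index_eq h]; exact (coprime h).symm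
  obtain ⟨hτ, hτ1⟩ := ind_isometry L K hTI hcop
  set S := Cfsg.inducedIrrAbove K ⊥ with hSdef
  have h3 : 3 ≤ Nat.card (up L W₁) ∧ 3 ≤ Nat.card (up L W₂) := by
    rw [Subgroup.card_map_of_injective L.subtype_injective,
      Subgroup.card_map_of_injective L.subtype_injective]
    refine ⟨three_le_card_W₁ L h, ?_⟩
    obtain ⟨r, hr⟩ := h.odd.of_dvd_nat (Subgroup.card_dvd_of_le (le_sup_right : W₂ ≤ W₁ ⊔ W₂))
    have := (Subgroup.one_lt_card_iff_ne_bot W₂).2 h.ne₂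
    omega
  have hcc : ∀ χ : L → ℂ, Cfsg.conjFun (Cfsg.conjFun χ) = χ := conjFun_conjFun
  have hdiff : ∀ χ ∈ S, χ - Cfsg.conjFun χ ∈ Cfsg.zspanOn S {1}ᶜ := fun χ hχ =>
    mem_zspanOn_compl_one (Submodule.sub_mem _ (mem_zS hχ) (mem_zS (above_conj K ⊥ hχ))) (by
      obtain ⟨n, hn⟩ := char_one_nat (isCharacter_mem L K hχ)
      simp [Cfsg.conjFun, hn])
  -- the irreducible members
  set U := {χ ∈ S | Cfsg.IsIrrCharacter L χ} with hU
  have hUc : ∀ χ ∈ U, Cfsg.conjFun χ ∈ U ∧ Cfsg.conjFun χ ≠ χ := fun χ hχ =>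
    ⟨⟨above_conj K ⊥ hχ.1, isIrrCharacter_conj hχ.2⟩, conj_ne L K hodd hχ.1⟩
  obtain ⟨R₀, hR₀⟩ : ∃ R₀ : (L → ℂ) → Finset (G → ℂ), ∀ χ ∈ U,
      (∀ a ∈ R₀ χ, Signed.IsSIrr a ∧ ∀ ω, Cfsg.classInner a (η ω) = 0) ∧
      (∀ a ∈ R₀ χ, ∀ b ∈ R₀ χ, Cfsg.classInner a b = if a = b then 1 else 0) ∧
      Cfsg.indFun L (χ - Cfsg.conjFun χ) = ∑ a ∈ R₀ χ, a ∧
      ∀ φ ∈ U, Cfsg.classInner φ χ = 0 → Cfsg.classInner φ (Cfsg.conjFun χ) = 0 →
        ∀ a ∈ R₀ φ, ∀ b ∈ R₀ χ, Cfsg.classInner a b = 0 := by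
    by_cases hUne : U.Nonempty
    swap
    · exact ⟨fun _ => ∅, fun χ hχ => absurd ⟨χ, hχ⟩ hUne⟩
    have hUS : U ⊆ S := fun χ hχ => hχ.1
    obtain ⟨R, hR⟩ := S1514.result U hUne (fun χ hχ => hχ.2) hUc (fun α : L → ℂ => Cfsg.indFun L α)
      ⟨fun a ha b hb => hτ.1 a (zspanOn_mono _ hUS ha) b (zspanOn_mono _ hUS hb),
        fun a ha => hτ.2.1 a (zspanOn_mono _ hUS ha),
        fun a ha b hb => hτ.2.2.1 a (zspanOn_mono _ hUS ha) b (zspanOn_mono _ hUS hb),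
        fun a ha => hτ.2.2.2 a (zspanOn_mono _ hUS ha)⟩
      fun a ha => hτ1 a (zspanOn_mono _ hUS ha)
    refine ⟨R, fun χ hχ => ⟨?_, hR.orthonormal χ hχ, hR.sum_eq χ hχ,
      fun φ hφ => hR.disjoint χ hχ φ hφ⟩⟩
    have hs : ∀ a ∈ R χ, Signed.IsSIrr a := fun a ha =>
      Signed.isSIrr_of_norm_one (hR.virtual χ hχ a ha) (normR hR hχ a ha)
    have h2 := card_R hR hχ (n := 1) (by rw [classInner_isIrr_self hχ.2, Nat.cast_one])
    obtain ⟨a, b, hab, hRab⟩ := Finset.card_eq_two.1 h2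
    have ha : a ∈ R χ := by rw [hRab]; simp
    have hb : b ∈ R χ := by rw [hRab]; simp
    have hsum := hR.sum_eq χ hχ
    rw [hRab, Finset.sum_pair hab] at hsum
    have hV : ∀ w : ↥(up L W₁ ⊔ up L W₂), (w : G) ∉ up L W₁ → (w : G) ∉ up L W₂ → (a + b) w = 0 :=
      fun w _ h2 => by
        rw [← hsum]
        exact ind_vanish_V L h (fun y hy => vanish_off L K (hdiff χ hχ.1).1 hy) w h2
    intro c hc
    refine ⟨hs c hc, fun ω => ?_⟩
    rw [hRab, Finset.mem_insert, Finset.mem_singleton] at hc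
    rcases hc with rfl | rfl
    · exact inner_eta_eq_zero hW hη h3.1 h3.2 (hs _ ha) (hs _ hb)
        (orthR hR hχ _ ha _ hb hab) hV ω
    · exact inner_eta_eq_zero hW hη h3.1 h3.2 (hs _ hb) (hs _ ha)
        (orthR hR hχ _ hb _ ha hab.symm) (fun w h1 h2 => by rw [add_comm]; exact hV w h1 h2) ω
  -- the reducible members
  have hrep : ∀ χ : L → ℂ, ∃ (ψ : ↥(up L W₁ ⊔ up L W₂) →* ℂˣ) (ε : ℂ),
      χ ∈ S → ¬ Cfsg.IsIrrCharacter L χ → Rep L (ξ := ξ) χ ψ ε := fun χ => by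
    by_cases h' : χ ∈ S ∧ ¬ Cfsg.IsIrrCharacter L χ
    · obtain ⟨ψ, ε, he⟩ := exists_rep L h hW hξ h'.1 h'.2
      exact ⟨ψ, ε, fun _ _ => he⟩
    · exact ⟨1, 1, fun h1 h2 => absurd ⟨h1, h2⟩ h'⟩
  choose ψf εf hrep using hrep
  set R : (L → ℂ) → Finset (G → ℂ) := fun χ => if Cfsg.IsIrrCharacter L χ then R₀ χ else
    (lefts L).image (fun φ => εf χ • η (φ * ψf χ)) ∪
      (lefts L).image (fun φ => -(εf χ • η (φ * (ψf χ)⁻¹))) with hR
  have hRirr : ∀ χ, Cfsg.IsIrrCharacter L χ → R χ = R₀ χ := fun χ h' => if_pos h'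
  have hmem : ∀ χ ∈ S, ¬ Cfsg.IsIrrCharacter L χ → ∀ a ∈ R χ,
      ∃ φ ψ' : ↥(up L W₁ ⊔ up L W₂) →* ℂˣ, ∃ s : ℂ, (s = 1 ∨ s = -1) ∧ IsLeft φ ∧ IsRight ψ' ∧
        (ψ' = ψf χ ∧ s = εf χ ∨ ψ' = (ψf χ)⁻¹ ∧ s = -εf χ) ∧ a = s • η (φ * ψ') := by
    intro χ hχ hn a ha
    obtain ⟨hψ, -, hε, -⟩ := hrep χ hχ hn
    simp only [hR, if_neg hn, Finset.mem_union, Finset.mem_image, mem_lefts] at ha
    rcases ha with ⟨φ, hφ, rfl⟩ | ⟨φ, hφ, rfl⟩
    · exact ⟨φ, _, _, hε, hφ, hψ, Or.inl ⟨rfl, rfl⟩, rfl⟩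
    · refine ⟨φ, _, _, ?_, hφ, inv_isRight L hψ, Or.inr ⟨rfl, rfl⟩, (neg_smul _ _).symm⟩
      rcases hε with e | e <;> simp [e]
  have hinner : ∀ (s t : ℂ) (ω ω' : ↥(up L W₁ ⊔ up L W₂) →* ℂˣ), (t = 1 ∨ t = -1) →
      Cfsg.classInner (s • η ω) (t • η ω') = if ω = ω' then s * t else 0 := by
    intro s t ω ω' ht
    rw [classInner_smul_left, classInner_smul_right, hη.orthonormal]
    rcases ht with rfl | rfl <;> split_ifs <;> simp
  have hcol : ∀ χ ∈ S, ¬ Cfsg.IsIrrCharacter L χ → ∀ φ ∈ S, ¬ Cfsg.IsIrrCharacter L φ →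
      Cfsg.classInner φ χ = 0 → Cfsg.classInner φ (Cfsg.conjFun χ) = 0 →
      ψf φ ≠ ψf χ ∧ ψf φ ≠ (ψf χ)⁻¹ := by
    intro χ hχ hn φ hφ hn' h1 h2
    obtain ⟨-, -, hε, hχe⟩ := hrep χ hχ hn
    obtain ⟨-, -, hε', hφe⟩ := hrep φ hφ hn'
    have hconj : Cfsg.conjFun χ = εf χ • ∑ x ∈ lefts L, ξ (pull L (x * (ψf χ)⁻¹)) := by
      rw [← conj_col L h hξ]
      conv_lhs => rw [hχe]
      funext g
      rcases hε with e | e <;> simp [Cfsg.conjFun, e]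
    have key : ∀ χ' : L → ℂ, ∀ ψ', χ' ∈ S → χ' = εf χ • ∑ x ∈ lefts L, ξ (pull L (x * ψ')) →
        Cfsg.classInner φ χ' = 0 → ψf φ ≠ ψ' := by
      intro χ' ψ' hm e h0 e'
      refine ne_zero_of_mem L K hm ?_
      have : χ' = (εf χ * εf φ) • φ := by
        refine e.trans ?_
        refine Eq.trans ?_ (congrArg (fun z => (εf χ * εf φ) • z) hφe).symm
        rw [e', smul_smul]
        rcases hε with r | r <;> rcases hε' with r' | r' <;> simp [r, r']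
      conv_lhs => arg 1; rw [this]
      rw [classInner_smul_left, h0, mul_zero]
    exact ⟨key χ _ hχ hχe h1, key _ _ (above_conj K ⊥ hχ) hconj h2⟩
  refine ⟨R, hne, fun χ => isCharacter_mem L K, fun χ => above_conj K ⊥,
    fun χ => conj_ne L K hodd, hτ, hτ1, fun χ hχ φ hφ => orthogonal L K hχ hφ, ?_, ?_, ?_, ?_⟩
  · intro χ hχ a ha b hb
    by_cases hi : Cfsg.IsIrrCharacter L χ
    · rw [hRirr χ hi] at ha hb
      exact (hR₀ χ ⟨hχ, hi⟩).2.1 a ha b hb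
    obtain ⟨φ, ψ', s, hs, hφ, hψ', hc, rfl⟩ := hmem χ hχ hi a ha
    obtain ⟨φ', ψ'', t, ht, hφ', hψ'', hc', rfl⟩ := hmem χ hχ hi b hb
    rw [hinner _ _ _ _ ht]
    by_cases e : φ * ψ' = φ' * ψ''
    · obtain ⟨rfl, rfl⟩ := (split_of hW).mul_inj hφ hφ' hψ' hψ'' e
      have hψ1 := inv_ne L h hW (hrep χ hχ hi).2.1
      have hst : s = t := by
        rcases hc with ⟨e1, e2⟩ | ⟨e1, e2⟩ <;> rcases hc' with ⟨e3, e4⟩ | ⟨e3, e4⟩
        · rw [e2, e4]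
        · exact absurd (e3.symm.trans e1) hψ1
        · exact absurd (e1.symm.trans e3) hψ1
        · rw [e2, e4]
      rw [if_pos rfl, if_pos (by rw [hst]), hst]
      rcases ht with rfl | rfl <;> norm_num
    · rw [if_neg e, if_neg fun e' => ?_]
      have h0 := congrArg (Cfsg.classInner (s • η (φ * ψ'))) e'
      rw [hinner _ _ _ _ hs, hinner _ _ _ _ ht, if_pos rfl, if_neg e] at h0
      rcases hs with rfl | rfl <;> norm_num at h0
  · intro χ hχ a ha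
    by_cases hi : Cfsg.IsIrrCharacter L χ
    · rw [hRirr χ hi] at ha
      exact ((hR₀ χ ⟨hχ, hi⟩).1 a ha).1.isGen
    obtain ⟨φ, ψ', s, hs, -, -, -, rfl⟩ := hmem χ hχ hi a ha
    rcases hs with rfl | rfl
    · rw [one_smul]; exact Signed.IsSIrr.isGen (hη.irr_or_neg _)
    · rw [neg_one_smul]; exact isGen_neg (Signed.IsSIrr.isGen (hη.irr_or_neg _))
  · intro χ hχ
    show Cfsg.indFun L (χ - Cfsg.conjFun χ) = _
    by_cases hi : Cfsg.IsIrrCharacter L χ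
    · rw [hRirr χ hi]
      exact (hR₀ χ ⟨hχ, hi⟩).2.2.1
    obtain ⟨hψ, hψ1, hε, hχe⟩ := hrep χ hχ hi
    have hconj : Cfsg.conjFun χ = εf χ • ∑ x ∈ lefts L, ξ (pull L (x * (ψf χ)⁻¹)) := by
      rw [← conj_col L h hξ]
      conv_lhs => rw [hχe]
      funext g
      rcases hε with e | e <;> simp [Cfsg.conjFun, e]
    have e0 : χ - Cfsg.conjFun χ = εf χ • (∑ φ ∈ lefts L, ξ (pull L (φ * ψf χ)) -
        ∑ φ ∈ lefts L, ξ (pull L (φ * (ψf χ)⁻¹))) := by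
      rw [smul_sub]; exact congrArg₂ (· - ·) hχe hconj
    rw [e0, indFun_smul, ind_col_sub L h hW hξ hη hTI hψ hψ1]
    have hε0 : εf χ ≠ 0 := by rcases hε with e | e <;> simp [e]
    have hinj : ∀ (s : ℂ), s ≠ 0 → ∀ ω ω', s • η ω = s • η ω' → ω = ω' := by
      intro s hs ω ω' e
      have e1 := smul_right_injective (G → ℂ) hs e
      by_contra hne
      have h0 := hη.orthonormal ω ω'
      rw [← e1, hη.orthonormal, if_pos rfl, if_neg hne] at h0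
      exact one_ne_zero h0
    simp only [hR, if_neg hi]
    rw [Finset.sum_union, Finset.sum_image, Finset.sum_image, Finset.smul_sum,
      ← Finset.sum_add_distrib]
    · exact Finset.sum_congr rfl fun φ _ => by rw [smul_sub, sub_eq_add_neg]
    · intro x _ y _ e
      exact mul_right_cancel (hinj _ hε0 _ _ (neg_inj.1 e))
    · intro x _ y _ e
      exact mul_right_cancel (hinj _ hε0 _ _ e)
    · rw [Finset.disjoint_left]
      intro a ha ha'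
      obtain ⟨x, hx, rfl⟩ := Finset.mem_image.1 ha
      obtain ⟨y, hy, e⟩ := Finset.mem_image.1 ha'
      have h0 := congrArg (fun z => Cfsg.classInner z (η (x * ψf χ))) e
      simp only [classInner_neg_left, classInner_smul_left, hη.orthonormal, if_true, mul_one]
        at h0
      have hnc : y * (ψf χ)⁻¹ ≠ x * ψf χ := fun e' => inv_ne L h hW hψ1
        ((split_of hW).mul_inj ((mem_lefts L).1 hy) ((mem_lefts L).1 hx) (inv_isRight L hψ) hψ e').2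
      rw [if_neg hnc, mul_zero, neg_zero] at h0
      exact hε0 h0.symm
  · intro χ hχ φ hφ h1 h2 a ha b hb
    by_cases hi : Cfsg.IsIrrCharacter L χ <;> by_cases hi' : Cfsg.IsIrrCharacter L φ
    · rw [hRirr φ hi'] at ha
      rw [hRirr χ hi] at hb
      exact (hR₀ χ ⟨hχ, hi⟩).2.2.2 φ ⟨hφ, hi'⟩ h1 h2 a ha b hb
    · rw [hRirr χ hi] at hb
      obtain ⟨x, y, s, -, -, -, -, rfl⟩ := hmem φ hφ hi' a ha
      rw [classInner_smul_left, inner_comm_zero (((hR₀ χ ⟨hχ, hi⟩).1 b hb).2 _), mul_zero]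
    · rw [hRirr φ hi'] at ha
      obtain ⟨x, y, s, -, -, -, -, rfl⟩ := hmem χ hχ hi b hb
      rw [classInner_smul_right, ((hR₀ φ ⟨hφ, hi'⟩).1 a ha).2, mul_zero]
    · obtain ⟨x, ψ', s, -, hx, hψ', hc, rfl⟩ := hmem φ hφ hi' a ha
      obtain ⟨y, ψ'', t, ht, hy, hψ'', hc', rfl⟩ := hmem χ hχ hi b hb
      obtain ⟨n1, n2⟩ := hcol χ hχ hi φ hφ hi' h1 h2
      rw [hinner _ _ _ _ ht, if_neg]
      intro e
      obtain ⟨-, e⟩ := (split_of hW).mul_inj hx hy hψ' hψ'' e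
      rcases hc with ⟨r, -⟩ | ⟨r, -⟩ <;> rcases hc' with ⟨r', -⟩ | ⟨r', -⟩ <;>
        rw [r, r'] at e
      · exact n1 e
      · exact n2 e
      · exact n2 (MonoidHom.ext fun w => inv_eq_iff_eq_inv.1 (DFunLike.congr_fun e w))
      · exact n1 (inv_injective e)

end Cfsg.Agent.OddChar.TypeP.SibleyPrime
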