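import Cfsg.Agent.OddChar.PrimeFrobBasic
import Cfsg.Agent.OddChar.Coherence.TI
import Cfsg.Agent.S1486
import Cfsg.Agent.S0194

/-!
# Induction from `L = K ⋊ W₁` when `K` is a trivial intersection set with normaliser `L`
-/

set_option linter.style.haveILetI false
set_option linter.unusedSectionVars false

namespace Cfsg.Agent.OddChar.TypeP.SibleyPrime

open Cfsg.Agent.Characters Cfsg.Agent.OddChar.Isometry Cfsg.Agent.OddChar.Coherence
open Cfsg.Agent.CharTheory.IndBasic (extendByZero_of_mem extendByZero_of_notMem)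
open scoped ComplexConjugate

universe u

variable {G : Type u} [Group G] [Fintype G] (L : Subgroup G) [Fintype L] (K : Subgroup L)
  [hK : K.Normal]

/-- `K` is a trivial intersection set with normaliser `L`. -/
def KernelTI : Prop :=
  ∀ y : L, y ∈ K → y ≠ 1 → ∀ x : G, ∀ hx : x⁻¹ * (y : G) * x ∈ L, (⟨_, hx⟩ : L) ∈ K → x ∈ L

variable (hTI : KernelTI L K) (hcop : (Nat.card K).Coprime K.index)

omit [Fintype G] in
/-- An element of order dividing `|K|` lies in `K`. -/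
theorem mem_of_orderOf_dvd (hcop : (Nat.card K).Coprime K.index) {y : L}
    (h : orderOf y ∣ Nat.card K) : y ∈ K := by
  refine (QuotientGroup.eq_one_iff y).1 (orderOf_eq_one_iff.1 (Nat.eq_one_of_dvd_coprimes hcop ?_ ?_))
  · exact (orderOf_map_dvd (QuotientGroup.mk' K) y).trans h
  · rw [Subgroup.index_eq_card]; exact orderOf_dvd_natCard _

include hTI hcop

/-- Values on `L ∖ {1}` of a class function induced from `K`. -/
theorem ind_value {β : L → ℂ} (hβ : Cfsg.IsClassFunction L β) (hoff : ∀ y, y ∉ K → β y = 0)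
    {y : L} (hy1 : y ≠ 1) : Cfsg.indFun L β (y : G) = β y := by
  by_cases hy : y ∈ K
  · exact TI.ind_value L K hTI hβ hoff hy hy1
  rw [hoff y hy]
  refine Induce.indFun_eq_zero L β _ fun x => ?_
  by_cases hx : x⁻¹ * (y : G) * x ∈ L
  · rw [extendByZero_of_mem L β hx]
    refine hoff _ fun hxK => hy (mem_of_orderOf_dvd L K hcop ?_)
    have h1 := Subgroup.orderOf_dvd_natCard K hxK
    rwa [← Subgroup.orderOf_coe, Subgroup.coe_mk, show x⁻¹ * (y : G) * x = MulAut.conj x⁻¹ (y : G) by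
      simp, MulEquiv.orderOf_eq, Subgroup.orderOf_coe] at h1
  · exact extendByZero_of_notMem L β hx

/-- Induction preserves inner products against class functions supported on `K`. -/
theorem inner_ind {α β : L → ℂ} (hα1 : α 1 = 0) (hβ : Cfsg.IsClassFunction L β)
    (hoff : ∀ y, y ∉ K → β y = 0) :
    Cfsg.classInner (Cfsg.indFun L α) (Cfsg.indFun L β) = Cfsg.classInner α β := by
  rw [frobenius_reciprocity L α (indFun_isClassFunction L β), classInner_def, classInner_def]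
  refine congrArg _ (Finset.sum_congr rfl fun y _ => ?_)
  by_cases hy1 : y = 1
  · rw [hy1, hα1, zero_mul, zero_mul]
  · rw [ind_value L K hTI hcop hβ hoff hy1]

omit hTI hcop

theorem mem_above_bot {θ : K → ℂ} (hθ : Cfsg.IsIrrCharacter K θ) (h1 : θ ≠ fun _ => 1) :
    Cfsg.indFun K θ ∈ Cfsg.inducedIrrAbove K ⊥ :=
  ⟨θ, hθ, h1, fun a ha => by rw [show a = 1 from Subtype.ext (Subgroup.mem_bot.1 ha)], rfl⟩

theorem isCharacter_mem {χ : L → ℂ} (hχ : χ ∈ Cfsg.inducedIrrAbove K ⊥) :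
    Cfsg.IsCharacter L χ := by
  obtain ⟨θ, hθ, -, -, rfl⟩ := hχ
  exact isCharacter_indFun K (isCharacter_of_isIrr hθ)

theorem vanish_off {α : L → ℂ} (hα : α ∈ Cfsg.zspan (Cfsg.inducedIrrAbove K ⊥)) {y : L}
    (hy : y ∉ K) : α y = 0 := by
  refine Submodule.span_induction (p := fun f _ => f y = 0) ?_ rfl ?_ ?_ hα
  · rintro χ ⟨θ, -, -, -, rfl⟩
    exact Induce.indFun_apply_normal_notMem K θ hy
  · intro a b _ _ ha hb; rw [Pi.add_apply, ha, hb, add_zero]
  · intro c a _ ha; rw [Pi.smul_apply, ha, smul_zero]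

theorem isGen_of_mem {α : L → ℂ} (hα : α ∈ Cfsg.zspan (Cfsg.inducedIrrAbove K ⊥)) :
    Cfsg.IsGeneralizedCharacter L α := by
  refine Submodule.span_induction (fun x hx => isGen_of_isCharacter (isCharacter_mem L K hx))
    isGen_zero (fun x y _ _ => isGen_add) (fun k x _ hx => ?_) hα
  rw [← Int.cast_smul_eq_zsmul ℂ k x]; exact isGen_intSmul hx k

theorem ne_zero_of_mem {χ : L → ℂ} (hχ : χ ∈ Cfsg.inducedIrrAbove K ⊥) :
    Cfsg.classInner χ χ ≠ 0 := by
  obtain ⟨θ, hθ, -, -, rfl⟩ := hχ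
  intro h
  have h1 := congrFun (classInner_self_eq_zero.1 h) 1
  rw [indFun_one, Pi.zero_apply, mul_eq_zero] at h1
  exact h1.elim (Nat.cast_ne_zero.2 Subgroup.index_ne_zero_of_finite) (irr_one_ne_zero hθ)

theorem orthogonal {χ φ : L → ℂ} (hχ : χ ∈ Cfsg.inducedIrrAbove K ⊥)
    (hφ : φ ∈ Cfsg.inducedIrrAbove K ⊥) (hne : χ ≠ φ) : Cfsg.classInner χ φ = 0 := by
  obtain ⟨θ, hθ, -, -, rfl⟩ := hχ
  obtain ⟨θ', hθ', -, -, rfl⟩ := hφ
  exact (S1486.result K θ' θ hθ' hθ).2 fun h => hne ((S1486.result K θ' θ hθ' hθ).1 h)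

theorem conj_orth (hodd : Odd (Nat.card L)) {χ : L → ℂ} (hχ : χ ∈ Cfsg.inducedIrrAbove K ⊥) :
    Cfsg.classInner (Cfsg.conjFun χ) χ = 0 := by
  obtain ⟨θ, hθ, h1, -, rfl⟩ := hχ
  exact S0194.result hodd K θ hθ h1

theorem conj_ne (hodd : Odd (Nat.card L)) {χ : L → ℂ} (hχ : χ ∈ Cfsg.inducedIrrAbove K ⊥) :
    Cfsg.conjFun χ ≠ χ := fun e => by
  have h := conj_orth L K hodd hχ
  rw [e] at h
  exact ne_zero_of_mem L K hχ h

include hTI hcop

/-- Induction is a linear isometry on the combinations of `S` vanishing at one. -/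
theorem ind_isometry :
    Cfsg.IsLinearIsometryOn (Cfsg.zspanOn (Cfsg.inducedIrrAbove K ⊥) {1}ᶜ)
      (fun α : L → ℂ => Cfsg.indFun L α) ∧
      ∀ α ∈ Cfsg.zspanOn (Cfsg.inducedIrrAbove K ⊥) {1}ᶜ, Cfsg.indFun L α 1 = 0 := by
  refine ⟨⟨fun α _ β _ => indFun_add L α β, fun α _ n => ?_, fun α hα β hβ => ?_,
    fun α hα => isGen_indFun L (isGen_of_mem L K hα.1)⟩, fun α hα => ?_⟩
  · show Cfsg.indFun L (n • α) = n • Cfsg.indFun L α
    rw [← Int.cast_smul_eq_zsmul ℂ n α, indFun_smul, Int.cast_smul_eq_zsmul]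
  · exact inner_ind L K hTI hcop (apply_one_eq_zero hα)
      (isGen_isClassFunction (isGen_of_mem L K hβ.1)) fun y hy => vanish_off L K hβ.1 hy
  · rw [indFun_one, apply_one_eq_zero hα, mul_zero]

end Cfsg.Agent.OddChar.TypeP.SibleyPrime
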