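import Cfsg.Agent.OddChar.TypeP.SibleyPrime.Basic
import Cfsg.Agent.OddChar.PrimeFrobMain

/-!
# The reducible members of `S` and their images (Peterfalvi 4.8 for a TI kernel)
-/

set_option linter.style.haveILetI false
set_option linter.unusedSectionVars false

namespace Cfsg.Agent.OddChar.TypeP.SibleyPrime

open Cfsg.Agent.Characters Cfsg.Agent.OddChar.Isometry Cfsg.Agent.OddChar.Coherence
open Cfsg.Agent.OddChar.CyclicTI Cfsg.Agent.OddChar.PrimeFrob
open scoped ComplexConjugate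

universe u

section Shift

variable {G : Type u} [Group G] [Fintype G] {ι : Type*} [DecidableEq ι]

/-- A common shift of orthogonal differences that keeps the total norm vanishes. -/
theorem shift_eq_zero {κ : Type*} [DecidableEq κ] (s : Finset ι) (hs : 3 ≤ s.card) (η : κ → G → ℂ)
    (hη : ∀ a b, Cfsg.classInner (η a) (η b) = if a = b then 1 else 0)
    (hηg : ∀ a, Cfsg.IsGeneralizedCharacter G (η a)) (p q : ι → κ)
    (hp : ∀ i ∈ s, ∀ j ∈ s, p i = p j → i = j) (hq : ∀ i ∈ s, ∀ j ∈ s, q i = q j → i = j)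
    (hpq : ∀ i ∈ s, ∀ j ∈ s, p i ≠ q j) {D : G → ℂ} (hD : Cfsg.IsGeneralizedCharacter G D)
    (h : ∀ i ∈ s, Cfsg.classInner (η (p i) - η (q i) + D)
      (∑ j ∈ s, (η (p j) - η (q j) + D)) = 2) : D = 0 := by
  choose c hc using fun a => classInner_gen_int hD (hηg a)
  obtain ⟨N, hN⟩ := classInner_gen_int hD hD
  set a : ι → G → ℂ := fun i => η (p i) - η (q i)
  have haa : ∀ i ∈ s, ∀ j ∈ s, Cfsg.classInner (a i) (a j) = if i = j then 2 else 0 := by
    intro i hi j hj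
    simp only [a, classInner_sub_left, classInner_sub_right, hη]
    rw [if_neg (hpq i hi j hj), if_neg (Ne.symm (hpq j hj i hi))]
    by_cases e : i = j
    · subst e; simp; norm_num
    · rw [if_neg e, if_neg fun e' => e (hp i hi j hj e'), if_neg fun e' => e (hq i hi j hj e')]
      ring
  have hDa : ∀ i, Cfsg.classInner D (a i) = ((c (p i) - c (q i) : ℤ) : ℂ) := fun i => by
    simp only [a, classInner_sub_right, hc]; push_cast; rfl
  set σ : ι → ℤ := fun i => c (p i) - c (q i) with hσ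
  set e : ℤ := (s.card : ℤ) with he
  have key : ∀ i ∈ s, e * σ i + ∑ j ∈ s, σ j + e * N = 0 := by
    intro i hi
    have h' := h i hi
    rw [classInner_sum_right, Finset.sum_congr rfl fun j (hj : j ∈ s) => show
      Cfsg.classInner (η (p i) - η (q i) + D) (η (p j) - η (q j) + D) =
        (if i = j then 2 else 0) + ((σ i : ℂ) + (σ j : ℂ) + (N : ℂ)) by
        rw [classInner_add_left, classInner_add_right, classInner_add_right, haa i hi j hj,
          inner_comm_int (hDa i), hDa j, hN]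
        ring,
      Finset.sum_add_distrib, Finset.sum_ite_eq, if_pos hi, Finset.sum_add_distrib,
      Finset.sum_add_distrib, Finset.sum_const, Finset.sum_const, add_eq_left] at h'
    have h'' : ((e * σ i + ∑ j ∈ s, σ j + e * N : ℤ) : ℂ) = 0 := by
      rw [← h', he]; push_cast; simp [nsmul_eq_mul]
    exact_mod_cast h''
  have he3 : 3 ≤ e := by rw [he]; exact_mod_cast hs
  obtain ⟨i₀, hi₀⟩ := Finset.card_pos.1 (by omega : 0 < s.card)
  have hconst : ∀ i ∈ s, σ i = σ i₀ := fun i hi => by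
    have := key i hi; have := key i₀ hi₀
    exact mul_left_cancel₀ (by omega : e ≠ 0) (by linarith)
  have hN2 : N = -2 * σ i₀ := by
    have h0 := key i₀ hi₀
    rw [Finset.sum_congr rfl hconst, Finset.sum_const, nsmul_eq_mul, ← he] at h0
    exact mul_left_cancel₀ (by omega : e ≠ 0) (by linarith)
  -- Bessel along `p` and `q`
  let f : ι ⊕ ι → G → ℂ := fun x => η (Sum.elim p q x)
  let u : ι ⊕ ι → ℤ := fun x => c (Sum.elim p q x)
  have horth : ∀ x ∈ s.disjSum s, ∀ y ∈ s.disjSum s, Cfsg.classInner (f x) (f y) =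
      if x = y then (((fun _ => 1) x : ℕ) : ℂ) else 0 := by
    intro x hx y hy
    show Cfsg.classInner (η (Sum.elim p q x)) (η (Sum.elim p q y)) = _
    rw [hη, Nat.cast_one]
    refine if_congr ⟨fun e' => ?_, fun e' => by rw [e']⟩ rfl rfl
    rcases Finset.mem_disjSum.1 hx with ⟨i, hi, rfl⟩ | ⟨i, hi, rfl⟩ <;>
      rcases Finset.mem_disjSum.1 hy with ⟨j, hj, rfl⟩ | ⟨j, hj, rfl⟩
    · rw [hp i hi j hj e']
    · exact absurd e' (hpq i hi j hj)
    · exact absurd e'.symm (hpq j hj i hi)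
    · rw [hq i hi j hj e']
  have hb := bessel (s := s.disjSum s) (f := f) (n := fun _ => 1) (fun _ _ => Nat.one_pos) horth
    (v := D) (u := u) fun x _ => hc _
  have hsq : ∀ x : ℤ, |x| ≤ x ^ 2 := fun x => by
    rcases le_or_gt 0 x with h0 | h0
    · rw [abs_of_nonneg h0]; nlinarith [sq_nonneg (x - 1), sq_nonneg x]
    · rw [abs_of_neg h0]; nlinarith
  have hb' : e * |σ i₀| ≤ N := by
    have h1 : ((∑ i ∈ s, (c (p i) ^ 2 + c (q i) ^ 2) : ℤ) : ℝ) ≤ (N : ℝ) := by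
      rw [hN, Complex.intCast_re, Finset.sum_disjSum, ← Finset.sum_add_distrib] at hb
      push_cast
      simpa [u] using hb
    have h1' : ∑ i ∈ s, (c (p i) ^ 2 + c (q i) ^ 2) ≤ N := by exact_mod_cast h1
    refine le_trans ?_ h1'
    rw [he, ← nsmul_eq_mul, ← Finset.sum_const]
    refine Finset.sum_le_sum fun i hi => ?_
    rw [← hconst i hi]
    have := hsq (c (p i)); have := hsq (c (q i)); have := abs_sub (c (p i)) (c (q i))
    simp only [σ]
    linarith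
  have hσ0 : σ i₀ = 0 := by
    rcases le_or_gt 0 (σ i₀) with h0 | h0
    · rw [abs_of_nonneg h0] at hb'; nlinarith
    · rw [abs_of_neg h0] at hb'; nlinarith
  rw [hσ0, mul_zero] at hN2
  exact classInner_self_eq_zero.1 (by rw [hN, hN2, Int.cast_zero])

end Shift

variable {G : Type u} [Group G] [Fintype G] (L : Subgroup G) [Fintype L]
  {K W₁ W₂ : Subgroup L} [hK : K.Normal]

/-- The image in `G` of a subgroup of `L`. -/
abbrev up (W : Subgroup L) : Subgroup G := W.map L.subtype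

/-- `W₁ ⊔ W₂` seen in `G`. -/
noncomputable def lift : ↥(W₁ ⊔ W₂) ≃* ↥(up L W₁ ⊔ up L W₂) :=
  (Subgroup.equivMapOfInjective (W₁ ⊔ W₂) L.subtype L.subtype_injective).trans
    (MulEquiv.subgroupCongr (Subgroup.map_sup _ _ _))

theorem lift_coe (w : ↥(W₁ ⊔ W₂)) : ((lift L w : ↥(up L W₁ ⊔ up L W₂)) : G) = ((w : L) : G) := rfl

theorem lift_symm_coe (v : ↥(up L W₁ ⊔ up L W₂)) :
    (((lift L (W₁ := W₁) (W₂ := W₂)).symm v : L) : G) = (v : G) := by
  conv_rhs => rw [← (lift L).apply_symm_apply v]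
  exact (lift_coe L _).symm

theorem mem_up_iff {W : Subgroup L} {w : L} : (w : G) ∈ up L W ↔ w ∈ W :=
  Subgroup.mem_map_iff_mem L.subtype_injective

/-- A linear character of `W` in `G`, seen on `W` in `L`. -/
noncomputable def pull (ω : ↥(up L W₁ ⊔ up L W₂) →* ℂˣ) : ↥(W₁ ⊔ W₂) →* ℂˣ :=
  ω.comp (lift L).toMonoidHom

theorem pull_apply (ω : ↥(up L W₁ ⊔ up L W₂) →* ℂˣ) (w : ↥(W₁ ⊔ W₂)) :
    pull L ω w = ω (lift L w) := rfl

theorem pull_mul (ω ω' : ↥(up L W₁ ⊔ up L W₂) →* ℂˣ) :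
    pull L (ω * ω') = pull L ω * pull L ω' := rfl

theorem pull_injective : Function.Injective (pull L (W₁ := W₁) (W₂ := W₂)) := fun ω ω' e =>
  MonoidHom.ext fun v => by
    simpa [pull] using DFunLike.congr_fun e ((lift L).symm v)

theorem isLeft_pull {ω : ↥(up L W₁ ⊔ up L W₂) →* ℂˣ} (h : IsLeft ω) : IsLeft (pull L ω) :=
  fun w hw => h _ ((mem_up_iff L).2 hw)

theorem isRight_pull {ω : ↥(up L W₁ ⊔ up L W₂) →* ℂˣ} (h : IsRight ω) : IsRight (pull L ω) :=
  fun w hw => h _ ((mem_up_iff L).2 hw)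

theorem indFun_congr {X : Type u} [Group X] [Fintype X] {H H' : Subgroup X} (e : H = H')
    (f : H → ℂ) (f' : H' → ℂ) (hf : ∀ x hx hx', f ⟨x, hx⟩ = f' ⟨x, hx'⟩) :
    Cfsg.indFun H f = Cfsg.indFun H' f' := by
  subst e
  congr 1
  funext x
  exact hf x x.2 x.2

/-- Transitivity through `L`. -/
theorem indFun_lift (f : ↥(up L W₁ ⊔ up L W₂) → ℂ) :
    Cfsg.indFun L (Cfsg.indFun (W₁ ⊔ W₂) fun w => f (lift L w)) =
      Cfsg.indFun (up L W₁ ⊔ up L W₂) f := by
  have hle : up L W₁ ⊔ up L W₂ ≤ L := sup_le (Subgroup.map_subtype_le _) (Subgroup.map_subtype_le _)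
  refine Eq.trans ?_ (indFun_trans _ L hle f)
  congr 1
  refine indFun_congr ?_ _ _ fun x hx hx' => congrArg f (Subtype.ext rfl)
  rw [← Subgroup.map_sup, Subgroup.subgroupOf,
    Subgroup.comap_map_eq_self_of_injective L.subtype_injective]

/-- The linear characters of `W` trivial on `W₂`. -/
noncomputable def lefts : Finset (↥(up L W₁ ⊔ up L W₂) →* ℂˣ) :=
  (Set.toFinite {φ : ↥(up L W₁ ⊔ up L W₂) →* ℂˣ | IsLeft φ}).toFinset

theorem mem_lefts {φ : ↥(up L W₁ ⊔ up L W₂) →* ℂˣ} : φ ∈ lefts L ↔ IsLeft φ := by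
  simp [lefts]

theorem one_mem_lefts : (1 : ↥(up L W₁ ⊔ up L W₂) →* ℂˣ) ∈ lefts L := (mem_lefts L).2 isLeft_one

theorem inv_isLeft {φ : ↥(up L W₁ ⊔ up L W₂) →* ℂˣ} (h : IsLeft φ) : IsLeft φ⁻¹ := fun w hw => by
  simp [h w hw]

theorem inv_isRight {φ : ↥(up L W₁ ⊔ up L W₂) →* ℂˣ} (h : IsRight φ) : IsRight φ⁻¹ :=
  fun w hw => by simp [h w hw]

variable (h : Setup K W₁ W₂) (hW : Cfsg.IsSelfNormalizingCyclic (up L W₁) (up L W₂))

include hW

theorem card_lefts : (lefts L (W₁ := W₁) (W₂ := W₂)).card = Nat.card W₁ := by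
  rw [lefts, ← Set.ncard_eq_toFinset_card _ _, ← Nat.card_coe_set_eq]
  exact (card_left (split_of hW) (comm_of hW)).trans
    (Subgroup.card_map_of_injective L.subtype_injective)

include h

theorem odd_card : Odd (Nat.card ↥(up L W₁ ⊔ up L W₂)) := by
  rw [← Nat.card_congr (lift L (W₁ := W₁) (W₂ := W₂)).toEquiv]; exact h.odd

theorem inv_ne {ψ : ↥(up L W₁ ⊔ up L W₂) →* ℂˣ} (h1 : ψ ≠ 1) : ψ⁻¹ ≠ ψ := by
  intro e
  refine h1 (MonoidHom.ext fun w => ?_)
  obtain ⟨k, hk⟩ := odd_card L h hW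
  have h2 : ψ w ^ 2 = 1 := by
    have := DFunLike.congr_fun e w
    rw [MonoidHom.inv_apply, inv_eq_iff_mul_eq_one] at this
    rwa [sq]
  have h3 : ψ w ^ (2 * k + 1) = 1 := by
    rw [← map_pow, ← hk, pow_card_eq_one', map_one]
  rwa [pow_succ, pow_mul, h2, one_pow, one_mul] at h3

omit hW

theorem three_le_card_W₁ : 3 ≤ Nat.card W₁ := by
  obtain ⟨r, hr⟩ := h.odd.of_dvd_nat (Subgroup.card_dvd_of_le (le_sup_left : W₁ ≤ W₁ ⊔ W₂))
  have := (Subgroup.one_lt_card_iff_ne_bot W₁).2 h.ne₁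
  omega

variable {ξ : (↥(W₁ ⊔ W₂) →* ℂˣ) → (L → ℂ)} (hξ : Cfsg.IsCyclicTIFamily W₁ W₂ ξ)
  {η : (↥(up L W₁ ⊔ up L W₂) →* ℂˣ) → (G → ℂ)}
  (hη : Cfsg.IsCyclicTIFamily (up L W₁) (up L W₂) η)

include hξ

theorem family_conj (ω : ↥(W₁ ⊔ W₂) →* ℂˣ) : Cfsg.conjFun (ξ ω) = ξ ω⁻¹ := by
  refine eq_family (cyclicTI h) h.odd hξ ?_ _ fun w h1 h2 => ?_
  · rcases hξ.irr_or_neg ω with hi | hi
    · exact Or.inl (isIrrCharacter_conj hi)
    · refine Or.inr ?_
      have := isIrrCharacter_conj hi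
      convert this using 1
      funext g
      simp [Cfsg.conjFun]
  · rw [Cfsg.conjFun, hξ.eq_on ω w h1 h2, MonoidHom.inv_apply, Units.val_inv_eq_inv_val,
      Complex.inv_eq_conj (linear_norm_eq_one ω w)]

theorem family_one_real (ω : ↥(W₁ ⊔ W₂) →* ℂˣ) : ξ ω⁻¹ 1 = ξ ω 1 := by
  rw [← family_conj L h hξ ω, Cfsg.conjFun]
  rcases hξ.irr_or_neg ω with hi | hi
  · obtain ⟨n, -, hn⟩ := irr_one_pos hi
    rw [hn, map_natCast]
  · obtain ⟨n, -, hn⟩ := irr_one_pos hi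
    rw [Pi.neg_apply, neg_eq_iff_eq_neg] at hn
    rw [hn, map_neg, map_natCast]

open Classical in
theorem inner_family (ω ω' : ↥(up L W₁ ⊔ up L W₂) →* ℂˣ) :
    Cfsg.classInner (ξ (pull L ω)) (ξ (pull L ω')) = if ω = ω' then 1 else 0 := by
  rw [hξ.orthonormal]
  by_cases e : ω = ω'
  · rw [if_pos e, if_pos (congrArg (pull L) e)]
  · rw [if_neg e, if_neg fun e' => e (pull_injective L e')]

/-- A column `∑ ξ (φ ψ)`. -/
theorem col_of_notMem (hW : Cfsg.IsSelfNormalizingCyclic (up L W₁) (up L W₂))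
    (ψ : ↥(up L W₁ ⊔ up L W₂) →* ℂˣ) {g : L} (hg : g ∉ K) :
    (∑ φ ∈ lefts L, ξ (pull L (φ * ψ))) g = 0 := by
  classical
  rw [Finset.sum_apply, Finset.sum_congr rfl fun φ hφ => show
    ξ (pull L (φ * ψ)) g = (lam h (pull L φ) g : ℂ) * ξ (pull L ψ) g by
      rw [pull_mul, family_mul h hξ (isLeft_pull L ((mem_lefts L).1 hφ))],
    ← Finset.sum_mul]
  refine mul_eq_zero_of_left ?_ _
  obtain ⟨k, hk, a, ha, rfl⟩ := exists_factor h g
  have ha1 : a ≠ 1 := fun e => hg (by rw [e, mul_one]; exact hk)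
  set w : ↥(up L W₁ ⊔ up L W₂) := lift L ⟨a, Subgroup.mem_sup_left ha⟩
  have hw : (w : G) ∉ up L W₂ := fun hm => by
    have hm' : a ∈ W₂ := (mem_up_iff L).1 (by simpa [w, lift_coe] using hm)
    have : a ∈ K ⊓ W₁ := ⟨h.le hm', ha⟩
    rw [h.inf, Subgroup.mem_bot] at this
    exact ha1 this
  haveI := Fintype.ofFinite (↥(up L W₁ ⊔ up L W₂) →* ℂˣ)
  refine Eq.trans ?_ (sum_left_eq_zero (split_of hW)
    (comm_of_le (comm_of hW) le_sup_left) hw)
  refine Finset.sum_congr (by ext φ; simp [mem_lefts]) fun φ hφ => ?_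
  rw [map_mul, lam_of_mem h hk, one_mul]
  exact congrArg Units.val
    (lam_apply h (isLeft_pull L (Finset.mem_filter.1 hφ).2) ⟨a, Subgroup.mem_sup_left ha⟩)

theorem conj_col (ψ : ↥(up L W₁ ⊔ up L W₂) →* ℂˣ) :
    Cfsg.conjFun (∑ φ ∈ lefts L, ξ (pull L (φ * ψ))) = ∑ φ ∈ lefts L, ξ (pull L (φ * ψ⁻¹)) := by
  funext g
  rw [Cfsg.conjFun, Finset.sum_apply, map_sum, Finset.sum_apply]
  refine Finset.sum_equiv (Equiv.inv _) (fun φ => ?_) fun φ _ => ?_
  · simp only [mem_lefts, Equiv.inv_apply]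
    exact ⟨inv_isLeft L, fun e => by simpa using inv_isLeft L e⟩
  · show Cfsg.conjFun (ξ (pull L (φ * ψ))) g = _
    rw [family_conj L h hξ, Equiv.inv_apply,
      show (pull L (φ * ψ))⁻¹ = pull L (φ⁻¹ * ψ⁻¹) from MonoidHom.ext fun w => by
        simp [pull_apply, mul_comm]]

/-- `χ` is `ε` times the column of `ψ`. -/
def Rep (χ : L → ℂ) (ψ : ↥(up L W₁ ⊔ up L W₂) →* ℂˣ) (ε : ℂ) : Prop :=
  IsRight ψ ∧ ψ ≠ 1 ∧ (ε = 1 ∨ ε = -1) ∧ χ = ε • ∑ φ ∈ lefts L, ξ (pull L (φ * ψ))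

include hW

/-- A reducible member of `S` is a signed column. -/
theorem exists_rep {χ : L → ℂ} (hχ : χ ∈ Cfsg.inducedIrrAbove K ⊥)
    (hred : ¬ Cfsg.IsIrrCharacter L χ) : ∃ ψ ε, Rep L (ξ := ξ) χ ψ ε := by
  classical
  haveI := Fintype.ofFinite K
  haveI := Fintype.ofFinite (Cfsg.IrrCharacter K)
  obtain ⟨θ, hθ, hθ1, -, rfl⟩ := hχ
  have hfix : ∀ x ∈ W₁, Fix K θ x := fun x hx => by_contra fun hn =>
    hred (irr_of_not_fix h hθ ⟨x, hx, hn⟩)
  have hres : (fun y : K => Cfsg.indFun K θ y) = (K.index : ℂ) • θ := by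
    funext y
    rw [Induce.indFun_apply_normal K θ y, Finset.sum_congr rfl fun x _ => show
      θ (Induce.conjHom K x (Induce.conj_mem_of_normal K x) y) = θ y by
        obtain ⟨k, hk, w, hw, e⟩ := exists_factor h x⁻¹
        have hx : Fix K θ x⁻¹ := e ▸ fix_mul (fix_of_mem h hθ hk) (hfix w hw)
        refine (congrArg θ (Subtype.ext ?_)).trans (congrFun hx y)
        show x⁻¹ * (y : L) * x = x⁻¹ * (y : L) * x⁻¹⁻¹
        rw [inv_inv],
      Finset.sum_const, Finset.card_univ, nsmul_eq_mul, ← Nat.card_eq_fintype_card,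
      ← K.card_mul_index, Nat.cast_mul, Pi.smul_apply, smul_eq_mul]
    rw [← mul_assoc, ← mul_assoc, inv_mul_cancel₀ natCard_ne_zero, one_mul]
  -- an extension of `θ`
  obtain ⟨C, hCc, hCi, hCs⟩ := decompose_fix h hθ hfix
  obtain ⟨f, hf0, hf⟩ := irr_one_pos hθ
  have hCone : ∀ μ ∈ C, Cfsg.classInner (fun y : K => μ y) θ = 1 := fun μ hμ => by
    rw [← frobenius_reciprocity' K θ (char_isClassFunction (isCharacter_of_isIrr (hCi μ hμ))), hCs,
      classInner_sum_right, Finset.sum_eq_single μ (fun ν hν hne =>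
        classInner_isIrr_ne (hCi μ hμ) (hCi ν hν) hne.symm) (fun hn => absurd hμ hn),
      classInner_isIrr_self (hCi μ hμ)]
  obtain ⟨μ, hμ⟩ := Finset.card_pos.1 (hCc ▸ Nat.card_pos : 0 < C.card)
  have hμK : ∀ y : K, μ y = θ y := by
    have hother : ∀ t : Cfsg.IrrCharacter K,
        Cfsg.classInner (fun y : K => μ y) (t : K → ℂ) = if (t : K → ℂ) = θ then 1 else 0 := by
      intro t
      split_ifs with e
      · rw [e]; exact hCone μ hμ
      · choose m hm using fun ν : L → ℂ => fun hν : ν ∈ C => classInner_char_nat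
          (isCharacter_restrict K (isCharacter_of_isIrr (hCi ν hν))) (irr_isCharacter t)
        have hs : ∑ ν ∈ C.attach, (m ν ν.2 : ℂ) = 0 := by
          rw [Finset.sum_congr rfl (g := fun ν : {x // x ∈ C} =>
              Cfsg.classInner (fun y : K => (ν : L → ℂ) y) (t : K → ℂ)) fun ν _ => (hm ν ν.2).symm,
            ← classInner_sum_left]
          have e1 : (∑ ν ∈ C.attach, fun y : K => (ν : L → ℂ) y) =
              fun y : K => Cfsg.indFun K θ y := by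
            rw [Finset.sum_attach C fun ν : L → ℂ => fun y : K => ν y]
            funext y
            rw [hCs, Finset.sum_apply, Finset.sum_apply]
          rw [e1, hres, classInner_smul_left, classInner_isIrr_ne hθ t.2 (Ne.symm e), mul_zero]
        rw [← Nat.cast_sum, Nat.cast_eq_zero, Finset.sum_eq_zero_iff] at hs
        rw [hm μ hμ, hs ⟨μ, hμ⟩ (Finset.mem_attach _ _), Nat.cast_zero]
    intro y
    have e1 := congrFun (classFun_eq_sum (char_isClassFunction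
      (isCharacter_restrict K (isCharacter_of_isIrr (hCi μ hμ))))) y
    rw [e1, Finset.sum_apply, Finset.sum_eq_single (⟨θ, hθ⟩ : Cfsg.IrrCharacter K)
      (fun t _ ht => by simp [hother t, show (t : K → ℂ) ≠ θ from fun e => ht (Subtype.ext e)])
      (fun hn => absurd (Finset.mem_univ _) hn), Pi.smul_apply, hother, if_pos rfl, one_smul]
  have hoff : ∃ g, g ∉ K ∧ μ g ≠ 0 := by
    by_contra hcon
    push Not at hcon
    have h1 : Cfsg.classInner μ μ = 1 := classInner_isIrr_self (hCi μ hμ)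
    have h2 : Cfsg.classInner θ θ = 1 := classInner_isIrr_self hθ
    rw [classInner_def, inv_mul_eq_iff_eq_mul₀ natCard_ne_zero, mul_one] at h1 h2
    rw [← Finset.sum_subset (Finset.subset_univ (Finset.univ.filter fun g : L => g ∈ K))
      (fun g _ hg => by rw [hcon g (by simpa using hg), zero_mul])] at h1
    rw [Finset.sum_subtype (p := fun g : L => g ∈ K) _ (by simp) (fun g => μ g * conj (μ g)),
      Finset.sum_congr rfl fun (y : K) _ => by rw [hμK y], h2, Nat.cast_inj, ← K.card_mul_index]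
      at h1
    have h3 : K.index = 1 := Nat.eq_of_mul_eq_mul_left (Nat.card_pos (α := K))
      (by rw [mul_one]; exact h1.symm)
    have := three_le_card_W₁ L h
    rw [index_eq h] at h3
    omega
  obtain ⟨g, hg, hne⟩ := hoff
  obtain ⟨ω, hω⟩ := exists_absIrr h hξ (θ := ⟨μ, hCi μ hμ⟩) hg hne
  obtain ⟨φ, ψ, hφ, hψ, rfl⟩ := (split_of (cyclicTI h)).exists_split ω
  obtain ⟨ε, hε, hμε⟩ : ∃ ε : ℂ, (ε = 1 ∨ ε = -1) ∧ μ = ε • ξ (φ * ψ) := by
    rcases absIrr_cases hξ (φ * ψ) with e | e <;> rw [hω] at e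
    · exact ⟨1, Or.inl rfl, by rw [one_smul]; exact e⟩
    · exact ⟨-1, Or.inr rfl, by rw [neg_one_smul]; exact e⟩
  set ψ' : ↥(up L W₁ ⊔ up L W₂) →* ℂˣ := ψ.comp (lift L).symm.toMonoidHom with hψ'def
  have hpull : pull L ψ' = ψ := MonoidHom.ext fun w => by simp [pull, hψ'def]
  have hψ' : IsRight ψ' := fun v hv => hψ _ ((mem_up_iff L).1 ((lift_symm_coe L v).symm ▸ hv :
    ((((lift L).symm v : ↥(W₁ ⊔ W₂)) : L) : G) ∈ up L W₁))
  have hθψ : ∀ y : K, θ y = ε * ξ ψ y := fun y => by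
    rw [← hμK y, hμε, Pi.smul_apply, smul_eq_mul, family_mul h hξ hφ ψ]
    simp [lam_of_mem h y.2]
  refine ⟨ψ', ε, hψ', fun e => hθ1 ?_, hε, ?_⟩
  · have hψ1 : ψ = 1 := by rw [← hpull, e]; rfl
    funext y
    rcases hε with rfl | rfl
    · rw [hθψ, hψ1, hξ.map_one, one_mul]
    · have := hθψ 1
      rw [hψ1, hξ.map_one, hf] at this
      have h3 : ((f + 1 : ℕ) : ℂ) = 0 := by push_cast; linear_combination this
      exact absurd (Nat.cast_eq_zero.1 h3) (Nat.succ_ne_zero f)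
  · funext x
    by_cases hx : x ∈ K
    · have e1 : Cfsg.indFun K θ x = (K.index : ℂ) * θ ⟨x, hx⟩ := congrFun hres ⟨x, hx⟩
      rw [e1, hθψ, Pi.smul_apply, Finset.sum_apply, Finset.sum_congr rfl fun φ' hφ' => show
        ξ (pull L (φ' * ψ')) x = ξ ψ x by
          rw [pull_mul, hpull, family_mul h hξ (isLeft_pull L ((mem_lefts L).1 hφ'))]
          simp [lam_of_mem h hx],
        Finset.sum_const, card_lefts L hW, nsmul_eq_mul, smul_eq_mul, index_eq h]
      ring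
    · rw [Induce.indFun_apply_normal_notMem K θ hx, Pi.smul_apply,
        col_of_notMem L h hξ hW ψ' hx, smul_zero]

include hη

theorem indFun_left {φ : ↥(up L W₁ ⊔ up L W₂) →* ℂˣ} (hφ : IsLeft φ)
    (ψ : ↥(up L W₁ ⊔ up L W₂) →* ℂˣ) :
    Cfsg.indFun L (ξ (pull L (φ * ψ)) - ξ (pull L ψ)) =
      Cfsg.indFun (up L W₁ ⊔ up L W₂) (fun v => ((φ * ψ) v : ℂ) - (ψ v : ℂ)) := by
  rw [← indFun_sub_eq h hξ fun w hw => by
    rw [pull_mul, MonoidHom.mul_apply, isLeft_pull L hφ w hw, one_mul]]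
  exact indFun_lift L fun v => ((φ * ψ) v : ℂ) - (ψ v : ℂ)

theorem indFun_left_sub {φ ψ : ↥(up L W₁ ⊔ up L W₂) →* ℂˣ} (hφ : IsLeft φ) (hψ : IsRight ψ) :
    Cfsg.indFun (up L W₁ ⊔ up L W₂) (fun v => ((φ * ψ) v : ℂ) - (ψ v : ℂ)) -
      Cfsg.indFun (up L W₁ ⊔ up L W₂) (fun v => (φ v : ℂ) - 1) =
      η (φ * ψ) - η ψ - η φ + η 1 := by
  rw [← indFun_sub]
  have e : ((fun v => ((φ * ψ) v : ℂ) - (ψ v : ℂ)) - fun v => (φ v : ℂ) - 1) = CyclicTI.alpha φ ψ := by
    funext v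
    simp [CyclicTI.alpha]
    ring
  rw [e]
  by_cases hφ1 : φ = 1
  · subst hφ1
    rw [show CyclicTI.alpha (1 : ↥(up L W₁ ⊔ up L W₂) →* ℂˣ) ψ = 0 by funext v; simp [CyclicTI.alpha],
      indFun_zero, show (1 : ↥(up L W₁ ⊔ up L W₂) →* ℂˣ) * ψ = ψ from one_mul ψ]
    abel
  by_cases hψ1 : ψ = 1
  · subst hψ1
    rw [show CyclicTI.alpha φ (1 : ↥(up L W₁ ⊔ up L W₂) →* ℂˣ) = 0 by funext v; simp [CyclicTI.alpha], indFun_zero,
      show φ * (1 : ↥(up L W₁ ⊔ up L W₂) →* ℂˣ) = φ from mul_one φ]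
    abel
  refine (hη.induced_eq φ ψ hφ1 hψ1 hφ hψ).trans ?_
  rw [hη.map_one]
  funext g
  simp only [Pi.add_apply, Pi.sub_apply]
  ring

variable (hTI : KernelTI L K)
include hTI

/-- The image of the difference of two conjugate columns (Peterfalvi 4.8). -/
theorem ind_col_sub {ψ : ↥(up L W₁ ⊔ up L W₂) →* ℂˣ} (hψ : IsRight ψ) (hψ1 : ψ ≠ 1) :
    Cfsg.indFun L (∑ φ ∈ lefts L, ξ (pull L (φ * ψ)) - ∑ φ ∈ lefts L, ξ (pull L (φ * ψ⁻¹))) =
      ∑ φ ∈ lefts L, (η (φ * ψ) - η (φ * ψ⁻¹)) := by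
  classical
  set E : (↥(up L W₁ ⊔ up L W₂) →* ℂˣ) → G → ℂ := fun φ =>
    Cfsg.indFun L (ξ (pull L (φ * ψ)) - ξ (pull L (φ * ψ⁻¹))) with hE
  have hψi := inv_isRight L hψ
  set D := E 1 - (η ψ - η ψ⁻¹) with hDdef
  have hEeq : ∀ φ ∈ lefts L, E φ = η (φ * ψ) - η (φ * ψ⁻¹) + D := by
    intro φ hφ
    have hφ' := (mem_lefts L).1 hφ
    have e1 : E φ - E 1 = (η (φ * ψ) - η ψ) - (η (φ * ψ⁻¹) - η ψ⁻¹) := by
      simp only [hE]
      rw [show (1 : ↥(up L W₁ ⊔ up L W₂) →* ℂˣ) * ψ = ψ from one_mul ψ,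
        show (1 : ↥(up L W₁ ⊔ up L W₂) →* ℂˣ) * ψ⁻¹ = ψ⁻¹ from one_mul ψ⁻¹]
      rw [← indFun_sub,
        show ξ (pull L (φ * ψ)) - ξ (pull L (φ * ψ⁻¹)) - (ξ (pull L ψ) - ξ (pull L ψ⁻¹)) =
          (ξ (pull L (φ * ψ)) - ξ (pull L ψ)) - (ξ (pull L (φ * ψ⁻¹)) - ξ (pull L ψ⁻¹)) by abel,
        indFun_sub, indFun_left L h hW hξ hη hφ', indFun_left L h hW hξ hη hφ']
      have a1 := indFun_left_sub L h hW hξ hη hφ' hψ
      have a2 := indFun_left_sub L h hW hξ hη hφ' hψi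
      rw [sub_eq_iff_eq_add] at a1 a2
      rw [a1, a2]
      abel
    rw [hDdef, sub_eq_iff_eq_add.1 e1]
    abel
  have hsum : Cfsg.indFun L (∑ φ ∈ lefts L, ξ (pull L (φ * ψ)) -
      ∑ φ ∈ lefts L, ξ (pull L (φ * ψ⁻¹))) = ∑ φ ∈ lefts L, E φ := by
    rw [← Finset.sum_sub_distrib]
    generalize lefts L = s
    induction s using Finset.induction with
    | empty => simp [indFun_zero]
    | insert a s ha ih => rw [Finset.sum_insert ha, Finset.sum_insert ha, indFun_add, ih]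
  have hgenξ : ∀ ω, Cfsg.IsGeneralizedCharacter L (ξ ω) := fun ω =>
    Signed.IsSIrr.isGen (hξ.irr_or_neg ω)
  have hgenη : ∀ ω, Cfsg.IsGeneralizedCharacter G (η ω) := fun ω =>
    Signed.IsSIrr.isGen (hη.irr_or_neg ω)
  have hD : Cfsg.IsGeneralizedCharacter G D :=
    isGen_sub (isGen_indFun L (isGen_sub (hgenξ _) (hgenξ _))) (isGen_sub (hgenη _) (hgenη _))
  have hcop : (Nat.card K).Coprime K.index := by rw [index_eq h]; exact (coprime h).symm
  have hpq : ∀ φ ∈ lefts L, ∀ φ' ∈ lefts L, φ * ψ ≠ φ' * ψ⁻¹ := fun φ hφ φ' hφ' e =>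
    inv_ne L h hW hψ1
      ((split_of hW).mul_inj ((mem_lefts L).1 hφ) ((mem_lefts L).1 hφ') hψ hψi e).2.symm
  have hD0 : D = 0 := by
    refine shift_eq_zero (lefts L) (by rw [card_lefts L hW]; exact three_le_card_W₁ L h) η
      (fun a b => by convert hη.orthonormal a b) hgenη (fun φ => φ * ψ) (fun φ => φ * ψ⁻¹) (fun _ _ _ _ => mul_right_cancel)
      (fun _ _ _ _ => mul_right_cancel) hpq hD fun φ hφ => ?_
    rw [← hEeq φ hφ, ← Finset.sum_congr rfl hEeq, ← hsum]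
    rw [inner_ind L K hTI hcop (α := ξ (pull L (φ * ψ)) - ξ (pull L (φ * ψ⁻¹)))]
    · rw [classInner_sub_left, classInner_sub_right, classInner_sub_right, classInner_sum_right,
        classInner_sum_right, classInner_sum_right, classInner_sum_right]
      simp only [inner_family L h hξ, mul_left_inj, Finset.sum_ite_eq, if_pos hφ]
      rw [Finset.sum_eq_zero fun φ' hφ' => if_neg (hpq φ hφ φ' hφ'),
        Finset.sum_eq_zero fun φ' hφ' => if_neg (hpq φ' hφ' φ hφ).symm]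
      norm_num
    · rw [Pi.sub_apply, pull_mul, pull_mul, family_apply_one h hξ (isLeft_pull L ((mem_lefts L).1 hφ)),
        family_apply_one h hξ (isLeft_pull L ((mem_lefts L).1 hφ)),
        show pull L ψ⁻¹ = (pull L ψ)⁻¹ from rfl, family_one_real L h hξ, sub_self]
    · exact isGen_isClassFunction (isGen_sub (isGen_sum _ _ fun _ _ => hgenξ _)
        (isGen_sum _ _ fun _ _ => hgenξ _))
    · intro y hy
      rw [Pi.sub_apply, col_of_notMem L h hξ hW ψ hy, col_of_notMem L h hξ hW ψ⁻¹ hy, sub_self]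
  rw [hsum, Finset.sum_congr rfl hEeq, hD0]
  simp

end Cfsg.Agent.OddChar.TypeP.SibleyPrime
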